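import Cfsg.Agent.M24Type41.Coord
import Cfsg.Prelude.Def_Transfer

/-!
# Consequences of the coordinates
-/

set_option autoImplicit false

namespace Cfsg.Agent.M24Type41

open Subgroup

variable {G : Type*} [Group G] {S A : Subgroup G} (hc : Coord S A)

namespace Coord

include hc

theorem α_zero : hc.α 0 = 1 := by
  have h := hc.mul_α 0 0
  rw [(xor_self 0).1] at h
  exact mul_left_cancel (h.trans (mul_one _).symm)

theorem α_inv (i : V) : (hc.α i)⁻¹ = hc.α i :=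
  inv_eq_of_mul_eq_one_right (by rw [hc.mul_α, (xor_self i).1, hc.α_zero])

theorem α_injective : Function.Injective hc.α := fun i j h => (hc.inj i j 1 1 (by rw [h])).1

theorem α_mem (i : V) : hc.α i ∈ A := (hc.mem_A _).mpr ⟨i, rfl⟩

theorem A_le : A ≤ S := fun x hx => by
  obtain ⟨i, rfl⟩ := (hc.mem_A x).mp hx
  exact (hc.mem_S _).mpr ⟨i, 1, by rw [map_one, mul_one]⟩

theorem β_mem (a : D8) : hc.β a ∈ S := (hc.mem_S _).mpr ⟨0, a, by rw [hc.α_zero, one_mul]⟩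

theorem comm {x y : G} (hx : x ∈ A) (hy : y ∈ A) : x * y = y * x := by
  obtain ⟨i, rfl⟩ := (hc.mem_A x).mp hx
  obtain ⟨j, rfl⟩ := (hc.mem_A y).mp hy
  rw [hc.mul_α, hc.mul_α, xor_comm']

theorem mul_self {x : G} (hx : x ∈ A) : x * x = 1 := by
  obtain ⟨i, rfl⟩ := (hc.mem_A x).mp hx
  rw [hc.mul_α, (xor_self i).1, hc.α_zero]

theorem elementary : Cfsg.IsElementaryAbelian 2 A :=
  ⟨⟨⟨fun x y => Subtype.ext (hc.comm x.2 y.2)⟩⟩, fun x hx => by rw [pow_two, hc.mul_self hx]⟩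

theorem card_A : Nat.card A = 64 := by
  rw [← Nat.card_eq_of_bijective (fun i => (⟨hc.α i, hc.α_mem i⟩ : A))
    ⟨fun i j h => hc.α_injective (congrArg Subtype.val h), fun x => ?_⟩]
  · simp
  · obtain ⟨i, hi⟩ := (hc.mem_A x.1).mp x.2
    exact ⟨i, Subtype.ext hi⟩

theorem el_mul (i j : V) (a b : D8) :
    hc.α i * hc.β a * (hc.α j * hc.β b) = hc.α (i ^^^ act a j) * hc.β (a * b) := by
  rw [← mul_assoc, mul_assoc (hc.α i), hc.conj, ← mul_assoc, hc.mul_α, mul_assoc, map_mul]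

theorem mem_A_iff (i : V) (a : D8) : hc.α i * hc.β a ∈ A ↔ a = 1 := by
  constructor
  · intro h
    obtain ⟨j, hj⟩ := (hc.mem_A _).mp h
    exact (hc.inj i j a 1 (by rw [← hj, map_one, mul_one])).2
  · rintro rfl
    rw [map_one, mul_one]
    exact hc.α_mem i

theorem commute_iff (i j : V) (a b : D8) :
    Commute (hc.α i * hc.β a) (hc.α j * hc.β b) ↔
      a * b = b * a ∧ i ^^^ act a j = j ^^^ act b i := by
  rw [commute_iff_eq, hc.el_mul, hc.el_mul]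
  constructor
  · intro h
    exact ⟨(hc.inj _ _ _ _ h).2, (hc.inj _ _ _ _ h).1⟩
  · rintro ⟨h1, h2⟩
    rw [h1, h2]

theorem conj_α (i k : V) (a : D8) :
    hc.α i * hc.β a * hc.α k * (hc.α i * hc.β a)⁻¹ = hc.α (act a k) := by
  rw [mul_inv_eq_iff_eq_mul, mul_assoc (hc.α i), hc.conj, ← mul_assoc, ← mul_assoc, hc.mul_α,
    hc.mul_α, xor_comm' i]

theorem commute_α_iff (i k : V) (a : D8) :
    Commute (hc.α k) (hc.α i * hc.β a) ↔ act a k = k := by
  rw [commute_iff_eq, ← hc.α_injective.eq_iff, ← hc.conj_α i k a, mul_inv_eq_iff_eq_mul, eq_comm]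

theorem le_normalizer_A : S ≤ normalizer (A : Set G) := by
  intro s hs
  obtain ⟨i, a, rfl⟩ := (hc.mem_S s).mp hs
  rw [mem_normalizer_iff]
  intro x
  constructor
  · intro hx
    obtain ⟨k, rfl⟩ := (hc.mem_A x).mp hx
    rw [hc.conj_α]
    exact hc.α_mem _
  · intro hx
    obtain ⟨k, hk⟩ := (hc.mem_A _).mp hx
    refine (hc.mem_A x).mpr ⟨act a⁻¹ k, ?_⟩
    have h := hc.conj_α i (act a⁻¹ k) a
    rw [← act_mul, mul_inv_cancel, act_one, hk] at h
    exact (mul_left_cancel (mul_right_cancel h) :)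

theorem involution {t : G} (ht : t ∈ S) (htA : t ∉ A) (ht2 : t * t = 1) :
    ∃ i a, t = hc.α i * hc.β a ∧ Inv a ∧ act a i = i := by
  obtain ⟨i, a, rfl⟩ := (hc.mem_S t).mp ht
  have ha1 : a ≠ 1 := fun h => htA ((hc.mem_A_iff i a).mpr h)
  have h : hc.α (i ^^^ act a i) * hc.β (a * a) = hc.α 0 * hc.β 1 := by
    rw [← hc.el_mul, ht2, hc.α_zero, map_one, one_mul]
  obtain ⟨h1, h2⟩ := hc.inj _ _ _ _ h
  refine ⟨i, a, rfl, ⟨h2, ha1⟩, ?_⟩
  have h3 : i ^^^ (i ^^^ act a i) = i ^^^ 0 := congrArg (fun v => i ^^^ v) h1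
  rwa [← xor_assoc', (xor_self i).1, (xor_self _).2.2, (xor_self i).2.1] at h3

theorem comm_step' {t u x : G} (ht : t ∈ S) (htA : t ∉ A) (ht2 : t * t = 1) (hu : u ∈ S)
    (hut : Commute u t) (hx : x ∈ A) : Commute (u * x * u⁻¹ * x⁻¹) t := by
  obtain ⟨i, a, rfl, ha, -⟩ := hc.involution ht htA ht2
  obtain ⟨j, b, rfl⟩ := (hc.mem_S u).mp hu
  obtain ⟨k, rfl⟩ := (hc.mem_A x).mp hx
  rw [hc.conj_α, hc.α_inv, hc.mul_α, hc.commute_α_iff]
  exact comm_step a b ha ((hc.commute_iff _ _ _ _).mp hut).1.symm k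

theorem cent {t z : G} (ht : t ∈ S) (htA : t ∉ A) (ht2 : t * t = 1) (hz : z ∈ S)
    (h : ∀ x ∈ A, Commute x t → Commute x z) : z ∈ A ∨ t * z ∈ A := by
  obtain ⟨i, a, rfl, ha, -⟩ := hc.involution ht htA ht2
  obtain ⟨j, b, rfl⟩ := (hc.mem_S z).mp hz
  rcases cent_fix a b ha (fun k hk => (hc.commute_α_iff j k b).mp
    (h _ (hc.α_mem k) ((hc.commute_α_iff i k a).mpr hk))) with rfl | rfl
  · exact Or.inl ((hc.mem_A_iff j 1).mpr rfl)
  · exact Or.inr (by rw [hc.el_mul, hc.mem_A_iff, ha.1])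

theorem normalize {t r : G} (ht : t ∈ S) (htA : t ∉ A) (ht2 : t * t = 1) (hr : r ∈ S)
    (h : ∀ x ∈ A, Commute x t → Commute (r * x * r⁻¹) t) : ∃ x ∈ A, Commute (r * x) t := by
  obtain ⟨i, a, rfl, ha, hai⟩ := hc.involution ht htA ht2
  obtain ⟨j, b, rfl⟩ := (hc.mem_S r).mp hr
  obtain ⟨hab, m, hm⟩ := normalize_fix a b ha (fun k hk => by
    have := h _ (hc.α_mem k) ((hc.commute_α_iff i k a).mpr hk)
    rwa [hc.conj_α, hc.commute_α_iff] at this) i hai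
  have hk : act b (act b⁻¹ (j ^^^ m)) = j ^^^ m := by rw [← act_mul, mul_inv_cancel, act_one]
  refine ⟨hc.α (act b⁻¹ (j ^^^ m)), hc.α_mem _, ?_⟩
  rw [mul_assoc, hc.conj, hk, ← mul_assoc, hc.mul_α, ← xor_assoc', (xor_self j).1,
    (xor_self m).2.2, hc.commute_iff]
  refine ⟨hab.symm, ?_⟩
  -- `m + act b i = i + act a m`
  have h1 : act b i = (act a m ^^^ m) ^^^ i := by rw [hm, xor_assoc', (xor_self i).1, (xor_self _).2.1]
  rw [h1, xor_comm' (act a m) m, xor_assoc', ← xor_assoc', (xor_self m).1, (xor_self _).2.2,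
    xor_comm']

theorem exists_two_moved {t : G} (ht : t ∈ S) (htA : t ∉ A) (ht2 : t * t = 1) :
    ∃ x ∈ A, ∃ y ∈ A, ¬ Commute x t ∧ ¬ Commute y t ∧ ¬ Commute (x * y) t := by
  obtain ⟨i, a, rfl, ha, -⟩ := hc.involution ht htA ht2
  obtain ⟨k, l, hk, hl, hkl⟩ := two_moved a ha
  refine ⟨_, hc.α_mem k, _, hc.α_mem l, ?_, ?_, ?_⟩
  · rwa [hc.commute_α_iff]
  · rwa [hc.commute_α_iff]
  · rwa [hc.mul_α, hc.commute_α_iff]

theorem mem_normalizer_of_conj [Finite G] {g : G} (hg : ∀ x ∈ A, g * x * g⁻¹ ∈ S) :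
    g ∈ normalizer (A : Set G) := by
  have hB : A.map (MulAut.conj g).toMonoidHom = A := by
    refine hc.uniq _ ?_ ?_ ?_
    · rintro _ ⟨x, hx, rfl⟩
      exact hg x hx
    · refine ⟨⟨?_⟩⟩
      rintro ⟨_, x, hx, rfl⟩ ⟨_, y, hy, rfl⟩
      refine Subtype.ext ?_
      show MulAut.conj g x * MulAut.conj g y = MulAut.conj g y * MulAut.conj g x
      rw [← map_mul, ← map_mul, hc.comm hx hy]
    · rw [card_map_of_injective (MulAut.conj g).injective, hc.card_A]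
  exact mem_normalizer_iff_map_conj_eq.mpr hB

end Coord

end Cfsg.Agent.M24Type41
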