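import Cfsg.Agent.M24Type41.Tables

/-!
# A filtration of the group of order 64 lowered by every `act d - 1`
-/

set_option autoImplicit false

namespace Cfsg.Agent.M24Type41

/-- The height in the socle series. -/
def lvl (v : V) : ℕ :=
  [0, 2, 3, 3, 1, 2, 3, 3, 3, 3, 3, 3, 3, 3, 3, 3, 3, 3, 3, 3, 3, 3, 3, 3, 2, 2, 3, 3, 2, 2, 3, 3,
    3, 3, 3, 3, 3, 3, 3, 3, 1, 2, 3, 3, 1, 2, 3, 3, 2, 2, 3, 3, 2, 2, 3, 3, 3, 3, 3, 3, 3, 3, 3,
    3].getD v.val 0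

theorem lvl_lt : ∀ (d : D8) (v : V), v ≠ 0 → lvl (act d v ^^^ v) < lvl v := by decide +kernel

end Cfsg.Agent.M24Type41
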