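import Cfsg.Agent.M24Type41.Basic
import Cfsg.Agent.StrClosed41.Core

/-!
# The abelian subgroup of order 64 is strongly closed
-/

set_option autoImplicit false

namespace Cfsg.Agent.M24Type41

open Subgroup StrClosed41

variable {G : Type*} [Group G] [Finite G] {S : Sylow 2 G} {A : Subgroup G}
  (hc : Coord (S : Subgroup G) A)

namespace Coord

/-- No element of `U = C_S(t)`, with `U` as large as possible, can be moved into `A` by the
normalizer of `U`. -/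
theorem not_fuse (t c : G) (htS : t ∈ (S : Subgroup G)) (htA : t ∉ A) (ht2 : t * t = 1)
    (hmax : ∀ x : G, x * t * x⁻¹ ∈ (S : Subgroup G) → x * t * x⁻¹ ∉ A →
      Nat.card ↥((S : Subgroup G) ⊓ centralizer {x * t * x⁻¹}) ≤
        Nat.card ↥((S : Subgroup G) ⊓ centralizer {t}))
    (hcN : c ∈ normalizer ((((S : Subgroup G) ⊓ centralizer {t} : Subgroup G)) : Set G))
    (hct : c * t * c⁻¹ ∈ A) (hc : Coord (S : Subgroup G) A) : False := by
  haveI : Fact (Nat.Prime 2) := ⟨Nat.prime_two⟩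
  set U : Subgroup G := (S : Subgroup G) ⊓ centralizer {t} with hU
  set N : Subgroup G := normalizer (U : Set G) with hN
  have hUmem : ∀ {u : G}, u ∈ U ↔ u ∈ (S : Subgroup G) ∧ Commute u t := fun {u} => by
    rw [hU, Subgroup.mem_inf, mem_centralizer_singleton_iff]; rfl
  have htU : t ∈ U := hUmem.mpr ⟨htS, Commute.refl t⟩
  have hUS : U ≤ (S : Subgroup G) := inf_le_left
  have hAN : A ≤ N := by
    intro a ha
    refine mem_normalizer_of_maps fun u hu => ?_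
    obtain ⟨huS, hut⟩ := hUmem.mp hu
    refine hUmem.mpr ⟨mul_mem (mul_mem (hc.A_le ha) huS) (inv_mem (hc.A_le ha)), ?_⟩
    rw [show a * u * a⁻¹ = (u * a * u⁻¹ * a⁻¹)⁻¹ * u by group]
    exact (hc.comm_step' htS htA ht2 huS hut ha).inv_left.mul_left hut
  have hUN : U ≤ N := le_normalizer
  -- the centre `Z` of `U`
  set Z : Subgroup G := U ⊓ centralizer (U : Set G) with hZd
  have hZmem : ∀ {z : G}, z ∈ Z ↔ z ∈ U ∧ ∀ u ∈ U, u * z = z * u := fun {z} => by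
    rw [hZd, Subgroup.mem_inf, mem_centralizer_iff]; rfl
  have htZ : t ∈ Z := hZmem.mpr ⟨htU, fun u hu => (hUmem.mp hu).2.eq⟩
  have hZn : ∀ n ∈ N, ∀ z ∈ Z, n * z * n⁻¹ ∈ Z := by
    intro n hn z hz
    obtain ⟨hzU, hzc⟩ := hZmem.mp hz
    refine hZmem.mpr ⟨(mem_normalizer_iff.mp hn z).mp hzU, fun u hu => ?_⟩
    have h1 := hzc _ ((mem_normalizer_iff''.mp hn u).mp hu)
    calc u * (n * z * n⁻¹) = n * (n⁻¹ * u * n * z) * n⁻¹ := by group
      _ = n * (z * (n⁻¹ * u * n)) * n⁻¹ := by rw [h1]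
      _ = n * z * n⁻¹ * u := by group
  have hZA : ∀ z ∈ Z, z ∈ A ∨ t * z ∈ A := by
    intro z hz
    obtain ⟨hzU, hzc⟩ := hZmem.mp hz
    exact hc.cent htS htA ht2 (hUS hzU) fun x hx hxt =>
      hzc x (hUmem.mpr ⟨hc.A_le hx, hxt⟩)
  have hZtwo : ∀ z ∈ Z, ∀ w ∈ Z, z ∉ A → w ∉ A → z * w ∈ A := by
    intro z hz w hw hzA hwA
    have h1 := (hZA z hz).resolve_left hzA
    have h2 := (hZA w hw).resolve_left hwA
    have htc : Commute t z := ((hUmem.mp (hZmem.mp hz).1).2).symm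
    have := mul_mem h1 h2
    rwa [show t * z * (t * w) = z * w by
      rw [htc.eq, mul_assoc, ← mul_assoc t t w, ht2, one_mul]] at this
  have hfix : ∀ a ∈ A, ¬ Commute a t → ∀ z ∈ Z, (Commute a z ↔ z ∈ A) := by
    intro a ha hat z hz
    refine ⟨fun h => ?_, fun h => hc.comm ha h⟩
    by_contra hzA
    refine hat ?_
    have h1 := (hZA z hz).resolve_left hzA
    have h2 : Commute a (t * z * z⁻¹) := Commute.mul_right (hc.comm ha h1) h.inv_right
    rwa [mul_inv_cancel_right] at h2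
  -- a Sylow subgroup of `N` above `A U`
  set P : Subgroup G := A ⊔ U with hP
  have hPN : P ≤ N := sup_le hAN hUN
  have hP2 : IsPGroup 2 P := S.isPGroup'.to_le (sup_le hc.A_le hUS)
  obtain ⟨R', hR'⟩ := (hP2.comap_subtype : IsPGroup 2 (P.subgroupOf N)).exists_le_sylow
  set R : Subgroup G := (R' : Subgroup N).map N.subtype with hR
  have hPR : P ≤ R := fun y hy => ⟨⟨y, hPN hy⟩, hR' (mem_subgroupOf.mpr hy), rfl⟩
  obtain ⟨W, hW⟩ := (R'.isPGroup'.map N.subtype).exists_le_sylow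
  obtain ⟨x, hx⟩ := MulAction.exists_smul_eq G W S
  have hxS : ∀ {y : G}, y ∈ R → x * y * x⁻¹ ∈ (S : Subgroup G) := by
    intro y hy; rw [← hx]; exact ⟨y, hW hy, rfl⟩
  have hxA : x ∈ normalizer (A : Set G) :=
    hc.mem_normalizer_of_conj fun y hy => hxS (hPR (mem_sup_left hy))
  -- `R` acts on `Z` as `A` does
  set t3 : G := x * t * x⁻¹ with ht3
  have ht3S : t3 ∈ (S : Subgroup G) := hxS (hPR (mem_sup_right htU))
  have ht3A : t3 ∉ A := fun h => htA ((mem_normalizer_iff.mp hxA t).mpr h)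
  have ht32 : t3 * t3 = 1 := by
    rw [ht3, show x * t * x⁻¹ * (x * t * x⁻¹) = x * (t * t) * x⁻¹ by group, ht2]; group
  have hU3 : U.map (MulAut.conj x).toMonoidHom = (S : Subgroup G) ⊓ centralizer {t3} := by
    refine eq_of_le_of_card_ge ?_ ?_
    · rintro _ ⟨u, hu, rfl⟩
      refine Subgroup.mem_inf.mpr ⟨hxS (hPR (mem_sup_right hu)),
        mem_centralizer_singleton_iff.mpr ?_⟩
      have h1 := (hUmem.mp hu).2.eq
      simp only [MulEquiv.coe_toMonoidHom, MulAut.conj_apply, ht3]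
      calc x * u * x⁻¹ * (x * t * x⁻¹) = x * (u * t) * x⁻¹ := by group
        _ = x * (t * u) * x⁻¹ := by rw [h1]
        _ = x * t * x⁻¹ * (x * u * x⁻¹) := by group
    · rw [card_map_of_injective (MulAut.conj x).injective]
      exact hmax x ht3S ht3A
  have hRA : ∀ r ∈ R, ∃ a ∈ A, r * a ∈ U := by
    intro r hr
    obtain ⟨a, ha, hat⟩ := hc.normalize ht3S ht3A ht32 (hxS hr) (fun y hy hyt => by
        have hy3 : y ∈ (S : Subgroup G) ⊓ centralizer {t3} :=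
          Subgroup.mem_inf.mpr ⟨hc.A_le hy, mem_centralizer_singleton_iff.mpr hyt.eq⟩
        rw [← hU3] at hy3
        obtain ⟨u, hu, rfl⟩ := hy3
        have hrN : r ∈ N := map_subtype_le _ hr
        have hu' := (hUmem.mp ((mem_normalizer_iff.mp hrN u).mp hu)).2.eq
        simp only [MulEquiv.coe_toMonoidHom, MulAut.conj_apply, ht3]
        show _ * _ = _ * _
        calc x * r * x⁻¹ * (x * u * x⁻¹) * (x * r * x⁻¹)⁻¹ * (x * t * x⁻¹)
            = x * (r * u * r⁻¹ * t) * x⁻¹ := by group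
          _ = x * (t * (r * u * r⁻¹)) * x⁻¹ := by rw [hu']
          _ = x * t * x⁻¹ * (x * r * x⁻¹ * (x * u * x⁻¹) * (x * r * x⁻¹)⁻¹) := by group)
    refine ⟨x⁻¹ * a * x, (mem_normalizer_iff''.mp hxA a).mp ha, ?_⟩
    have hm : x * r * x⁻¹ * a ∈ (S : Subgroup G) ⊓ centralizer {t3} :=
      Subgroup.mem_inf.mpr ⟨mul_mem (hxS hr) (hc.A_le ha),
        mem_centralizer_singleton_iff.mpr hat.eq⟩
    rw [← hU3] at hm
    obtain ⟨u, hu, hue⟩ := hm
    simp only [MulEquiv.coe_toMonoidHom, MulAut.conj_apply] at hue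
    rwa [show r * (x⁻¹ * a * x) = x⁻¹ * (x * r * x⁻¹ * a) * x by group, ← hue,
      show x⁻¹ * (x * u * x⁻¹) * x = u by group]
  have hRact : ∀ r ∈ R, ∃ a ∈ A, ∀ z ∈ Z, r * z * r⁻¹ = a * z * a⁻¹ := by
    intro r hr
    obtain ⟨a, ha, hau⟩ := hRA r hr
    refine ⟨a⁻¹, inv_mem ha, fun z hz => ?_⟩
    have hz' := hZn a⁻¹ (hAN (inv_mem ha)) z hz
    have h1 := (hZmem.mp hz').2 _ hau
    calc r * z * r⁻¹ = r * a * (a⁻¹ * z * a⁻¹⁻¹) * (r * a)⁻¹ := by group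
      _ = a⁻¹ * z * a⁻¹⁻¹ * (r * a) * (r * a)⁻¹ := by rw [h1]
      _ = a⁻¹ * z * a⁻¹⁻¹ := by group
  -- the two actors
  have hδ : ∀ a ∈ A, a * t * a⁻¹ * t⁻¹ ∈ A ∧ a * t * a⁻¹ * t⁻¹ ∈ Z := by
    intro a ha
    refine ⟨?_, mul_mem (hZn a (hAN ha) t htZ) (inv_mem htZ)⟩
    rw [show a * t * a⁻¹ * t⁻¹ = a * (t * a⁻¹ * t⁻¹) by group]
    exact mul_mem ha ((mem_normalizer_iff.mp (hc.le_normalizer_A htS) _).mp (inv_mem ha))
  have hchoose : ∀ g ∈ N, ∃ a ∈ A, ¬ Commute a t ∧ g * (a * t * a⁻¹ * t⁻¹) * g⁻¹ ∈ A := by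
    intro g hg
    obtain ⟨a, ha, b, hb, hat, hbt, habt⟩ := hc.exists_two_moved htS htA ht2
    by_cases h1 : g * (a * t * a⁻¹ * t⁻¹) * g⁻¹ ∈ A
    · exact ⟨a, ha, hat, h1⟩
    by_cases h2 : g * (b * t * b⁻¹ * t⁻¹) * g⁻¹ ∈ A
    · exact ⟨b, hb, hbt, h2⟩
    refine ⟨a * b, mul_mem ha hb, habt, ?_⟩
    have h3 := hZtwo _ (hZn g hg _ (hδ b hb).2) _ (hZn g hg _ (hδ a ha).2) h2 h1
    have hab : a * b * t * (a * b)⁻¹ * t⁻¹ =
        (b * t * b⁻¹ * t⁻¹) * (a * t * a⁻¹ * t⁻¹) := by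
      have h4 := hc.comm ha (hδ b hb).1
      calc a * b * t * (a * b)⁻¹ * t⁻¹ = a * (b * t * b⁻¹ * t⁻¹) * t * a⁻¹ * t⁻¹ := by group
        _ = (b * t * b⁻¹ * t⁻¹) * a * t * a⁻¹ * t⁻¹ := by rw [h4]
        _ = (b * t * b⁻¹ * t⁻¹) * (a * t * a⁻¹ * t⁻¹) := by group
    rwa [hab, show g * (b * t * b⁻¹ * t⁻¹ * (a * t * a⁻¹ * t⁻¹)) * g⁻¹ =
      g * (b * t * b⁻¹ * t⁻¹) * g⁻¹ * (g * (a * t * a⁻¹ * t⁻¹) * g⁻¹) by group]
  obtain ⟨e, he, het, hde⟩ := hchoose c⁻¹ (inv_mem hcN)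
  rw [inv_inv] at hde
  obtain ⟨b, hb, hbt, hdb⟩ := hchoose c hcN
  set d := e * t * e⁻¹ * t⁻¹ with hd
  set d' := b * t * b⁻¹ * t⁻¹ with hd'
  set s := c * b * c⁻¹ with hs
  have hsN : s ∈ N := mul_mem (mul_mem hcN (hAN hb)) (inv_mem hcN)
  have hactA : ∀ a ∈ A, ∀ z ∈ Z, a * z * a⁻¹ = z ∨ a * z * a⁻¹ = a * t * a⁻¹ * t⁻¹ * z := by
    intro a ha z hz
    rcases hZA z hz with h | h
    · exact Or.inl (by rw [hc.comm ha h, mul_inv_cancel_right])
    · refine Or.inr ?_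
      have h1 : a * (t * z) * a⁻¹ = t * z := by rw [hc.comm ha h, mul_inv_cancel_right]
      have htt : t⁻¹ = t := inv_eq_of_mul_eq_one_right ht2
      calc a * z * a⁻¹ = a * t⁻¹ * a⁻¹ * (a * (t * z) * a⁻¹) := by group
        _ = a * t⁻¹ * a⁻¹ * (t * z) := by rw [h1]
        _ = a * t * a⁻¹ * (t⁻¹ * z) := by rw [htt]
        _ = a * t * a⁻¹ * t⁻¹ * z := by group
  have hsd : s * d * s⁻¹ = d := by
    have h1 := hc.comm hb hde
    calc s * d * s⁻¹ = c * (b * (c⁻¹ * d * c)) * b⁻¹ * c⁻¹ := by rw [hs]; group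
      _ = c * ((c⁻¹ * d * c) * b) * b⁻¹ * c⁻¹ := by rw [h1]
      _ = d := by group
  have hcommZ : ∀ z ∈ Z, e * (s * z * s⁻¹) * e⁻¹ = s * (e * z * e⁻¹) * s⁻¹ := by
    intro z hz
    obtain ⟨δ, hδA, hδs, he1⟩ : ∃ δ ∈ A, s * δ * s⁻¹ = δ ∧ e * z * e⁻¹ = δ * z := by
      rcases hactA e he z hz with h | h
      · exact ⟨1, one_mem _, by group, by rw [h, one_mul]⟩
      · exact ⟨d, (hδ e he).1, hsd, h⟩
    obtain ⟨δ', hδ'A, hs1⟩ : ∃ δ' ∈ A, s * z * s⁻¹ = δ' * z := by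
      rcases hactA b hb (c⁻¹ * z * c) (by simpa using hZn c⁻¹ (inv_mem hcN) z hz) with h | h
      · refine ⟨1, one_mem _, ?_⟩
        calc s * z * s⁻¹ = c * (b * (c⁻¹ * z * c) * b⁻¹) * c⁻¹ := by rw [hs]; group
          _ = 1 * z := by rw [h]; group
      · refine ⟨c * d' * c⁻¹, hdb, ?_⟩
        calc s * z * s⁻¹ = c * (b * (c⁻¹ * z * c) * b⁻¹) * c⁻¹ := by rw [hs]; group
          _ = c * (d' * (c⁻¹ * z * c)) * c⁻¹ := by rw [h]
          _ = c * d' * c⁻¹ * z := by group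
    have h1 := hc.comm he hδ'A
    have h2 := hc.comm hδA hδ'A
    calc e * (s * z * s⁻¹) * e⁻¹ = e * δ' * z * e⁻¹ := by rw [hs1]; group
      _ = δ' * (e * z * e⁻¹) := by rw [h1]; group
      _ = δ * δ' * z := by rw [he1, ← mul_assoc, ← h2]
      _ = s * δ * s⁻¹ * (s * z * s⁻¹) := by rw [hδs, hs1]; group
      _ = s * (δ * z) * s⁻¹ := by group
      _ = s * (e * z * e⁻¹) * s⁻¹ := by rw [he1]
  -- the image in the automorphisms of `Z`
  have hZN : Z ≤ N := inf_le_left.trans hUN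
  haveI hZnormal : (Z.subgroupOf N).Normal := ⟨fun z hz n => hZn n n.2 z hz⟩
  let q : N →* MulAut (Z.subgroupOf N) := MulAut.conjNormal
  have hq : ∀ n m : N, q n = q m →
      ∀ z ∈ Z, (n : G) * z * (n : G)⁻¹ = (m : G) * z * (m : G)⁻¹ := by
    intro n m h z hz
    have := congrArg (fun f : MulAut (Z.subgroupOf N) =>
      (((f ⟨⟨z, hZN hz⟩, hz⟩ : Z.subgroupOf N) : N) : G)) h
    simpa [q] using this
  have hq' : ∀ n m : N, (∀ z ∈ Z, (n : G) * z * (n : G)⁻¹ = (m : G) * z * (m : G)⁻¹) →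
      q n = q m := by
    intro n m h
    refine MulEquiv.ext fun z => Subtype.ext (Subtype.ext ?_)
    simpa [q] using h _ (mem_subgroupOf.mp z.2)
  set qe := q.rangeRestrict ⟨e, hAN he⟩ with hqe
  set qs := q.rangeRestrict ⟨s, hsN⟩ with hqs
  have hinv : ∀ w : N, (w : G) * w = 1 → IsPGroup 2 (zpowers (q.rangeRestrict w)) := by
    intro w hw
    obtain ⟨j, -, hj⟩ := (Nat.dvd_prime_pow Nat.prime_two).mp
      (orderOf_dvd_of_pow_eq_one (x := q.rangeRestrict w) (n := 2 ^ 1) (by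
        rw [pow_one, pow_two, ← map_mul, show w * w = 1 from Subtype.ext hw, map_one]))
    exact IsPGroup.of_card (n := j) (by rw [Nat.card_zpowers, hj])
  have hes : Commute qe qs := by
    show _ * _ = _ * _
    rw [hqe, hqs, ← map_mul, ← map_mul]
    refine Subtype.ext (hq' _ _ fun z hz => ?_)
    simpa [mul_assoc] using hcommZ z hz
  have hT2 : IsPGroup 2 ↥(zpowers qe ⊔ zpowers qs) := by
    refine (hinv _ (hc.mul_self he)).to_sup_of_normal_right' (hinv _ ?_) ?_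
    · show s * s = 1
      rw [hs, show c * b * c⁻¹ * (c * b * c⁻¹) = c * (b * b) * c⁻¹ by group, hc.mul_self hb]
      group
    · refine zpowers_le.mpr (mem_normalizer_of_maps fun y hy => ?_)
      obtain ⟨k, rfl⟩ := hy
      simp only
      rw [(hes.zpow_right k).eq, mul_inv_cancel_right]
      exact ⟨k, rfl⟩
  obtain ⟨T', hT'⟩ := hT2.exists_le_sylow
  obtain ⟨hbar, hh⟩ := MulAction.exists_smul_eq q.range T' (R'.mapSurjective q.rangeRestrict_surjective)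
  obtain ⟨h, rfl⟩ := q.rangeRestrict_surjective hbar
  have hsame : ∀ w : N, q.rangeRestrict w ∈ (T' : Subgroup q.range) → ∃ a ∈ A, ∀ z ∈ Z,
      ((h : G) * w * (h : G)⁻¹) * z * ((h : G) * w * (h : G)⁻¹)⁻¹ = a * z * a⁻¹ := by
    intro w hw
    have h1 : q.rangeRestrict h * q.rangeRestrict w * (q.rangeRestrict h)⁻¹ ∈
        ((R'.mapSurjective q.rangeRestrict_surjective : Sylow 2 q.range) : Subgroup q.range) := by
      rw [← hh]; exact ⟨_, hw, rfl⟩
    rw [Sylow.coe_mapSurjective] at h1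
    obtain ⟨r, hr, hre⟩ := h1
    rw [← map_mul, ← map_inv, ← map_mul] at hre
    obtain ⟨a, ha, hact⟩ := hRact (r : G) ⟨r, hr, rfl⟩
    refine ⟨a, ha, fun z hz => ?_⟩
    rw [← hact z hz]
    simpa using (hq r (h * w * h⁻¹) (congrArg Subtype.val hre) z hz).symm
  -- fixed points
  have hfixR : ∀ w : G, w ∈ N → (∀ a ∈ A, (∀ z ∈ Z,
      ((h : G) * w * (h : G)⁻¹) * z * ((h : G) * w * (h : G)⁻¹)⁻¹ = a * z * a⁻¹) →
      ∀ u ∈ Z, ¬ Commute w u → ∀ z ∈ Z,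
        (Commute w z ↔ (h : G) * z * (h : G)⁻¹ ∈ A)) := by
    intro w _ a ha hact u hu hwu z hz
    have key : ∀ v ∈ Z, (Commute w v ↔ Commute a ((h : G) * v * (h : G)⁻¹)) := by
      intro v hv
      have h1 := hact _ (hZn h h.2 v hv)
      constructor
      · intro hwv
        rw [commute_iff_eq, ← mul_inv_eq_iff_eq_mul, ← h1,
          show (h : G) * w * (h : G)⁻¹ * ((h : G) * v * (h : G)⁻¹) * ((h : G) * w * (h : G)⁻¹)⁻¹ =
            (h : G) * (w * v * w⁻¹) * (h : G)⁻¹ by group, hwv.eq, mul_inv_cancel_right]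
      · intro hav
        rw [hav.eq, mul_inv_cancel_right,
          show (h : G) * w * (h : G)⁻¹ * ((h : G) * v * (h : G)⁻¹) * ((h : G) * w * (h : G)⁻¹)⁻¹ =
            (h : G) * (w * v * w⁻¹) * (h : G)⁻¹ by group] at h1
        have h2 : w * v * w⁻¹ = v := mul_left_cancel (mul_right_cancel h1)
        exact mul_inv_eq_iff_eq_mul.mp h2
    rw [key z hz]
    refine hfix a ha (fun hat => hwu ((key u hu).mpr ?_)) _ (hZn h h.2 z hz)
    rcases hZA _ (hZn h h.2 u hu) with hA' | hA'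
    · exact hc.comm ha hA'
    · have h3 : Commute a (t * (t * ((h : G) * u * (h : G)⁻¹))) :=
        Commute.mul_right hat (hc.comm ha hA')
      rwa [← mul_assoc t t, ht2, one_mul] at h3
  obtain ⟨a1, ha1, hact1⟩ := hsame ⟨e, hAN he⟩ (hT' (mem_sup_left (mem_zpowers _)))
  obtain ⟨a2, ha2, hact2⟩ := hsame ⟨s, hsN⟩ (hT' (mem_sup_right (mem_zpowers _)))
  set t' := c * t * c⁻¹ with ht'
  have ht'Z : t' ∈ Z := hZn c hcN t htZ
  have h1 : Commute e t' := hc.comm he hct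
  have h2 := (hfixR e (hAN he) a1 ha1 hact1 t htZ het t' ht'Z).mp h1
  have h3 := (hfixR s hsN a2 ha2 hact2 t' ht'Z ?_ t' ht'Z).mpr h2
  · refine hbt ?_
    have h4 : s * t' = t' * s := h3.eq
    rw [hs, ht', show c * b * c⁻¹ * (c * t * c⁻¹) = c * (b * t) * c⁻¹ by group,
      show c * t * c⁻¹ * (c * b * c⁻¹) = c * (t * b) * c⁻¹ by group] at h4
    exact mul_left_cancel (mul_right_cancel h4)
  · intro h4
    refine hbt ?_
    have h5 : s * t' = t' * s := h4.eq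
    rw [hs, ht', show c * b * c⁻¹ * (c * t * c⁻¹) = c * (b * t) * c⁻¹ by group,
      show c * t * c⁻¹ * (c * b * c⁻¹) = c * (t * b) * c⁻¹ by group] at h5
    exact mul_left_cancel (mul_right_cancel h5)

include hc in
/-- The abelian subgroup of order 64 is strongly closed in `S`. -/
theorem stronglyClosed : Cfsg.IsStronglyClosed A (S : Subgroup G) := by
  haveI : Fact (Nat.Prime 2) := ⟨Nat.prime_two⟩
  classical
  refine ⟨hc.A_le, fun y hy g hg => ?_⟩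
  by_contra hbad
  haveI := Fintype.ofFinite G
  let B : Finset G := Finset.univ.filter fun t =>
    t ∈ (S : Subgroup G) ∧ t ∉ A ∧ ∃ g : G, g * t * g⁻¹ ∈ A
  have hB : B.Nonempty := ⟨g * y * g⁻¹, by
    simp only [B, Finset.mem_filter, Finset.mem_univ, true_and]
    exact ⟨hg, hbad, g⁻¹, by rwa [show g⁻¹ * (g * y * g⁻¹) * g⁻¹⁻¹ = y by group]⟩⟩
  obtain ⟨t, htB, htmax⟩ := B.exists_max_image
    (fun t => Nat.card ↥((S : Subgroup G) ⊓ centralizer {t})) hB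
  simp only [B, Finset.mem_filter, Finset.mem_univ, true_and] at htB htmax
  obtain ⟨htS, htA, g0, hg0⟩ := htB
  have ht2 : t * t = 1 := by
    have h := hc.mul_self hg0
    rw [show g0 * t * g0⁻¹ * (g0 * t * g0⁻¹) = g0 * (t * t) * g0⁻¹ by group] at h
    exact conj_eq_one_iff.mp h
  set U : Subgroup G := (S : Subgroup G) ⊓ centralizer {t} with hU
  set C : Subgroup G := centralizer {t} with hC
  -- a 2-subgroup of `C(t)` above `U`
  obtain ⟨R1, hR1, hR1C, hUR1, c0, hc0, hc0R⟩ := exists_conj_mem_two C U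
    (A.map (MulAut.conj g0⁻¹).toMonoidHom) (S.isPGroup'.to_le inf_le_left)
    ((S.isPGroup'.to_le hc.A_le).map _) inf_le_right (by
      rintro _ ⟨a, ha, rfl⟩
      refine mem_centralizer_singleton_iff.mpr ?_
      have h := hc.comm ha hg0
      simp only [MulEquiv.coe_toMonoidHom, MulAut.conj_apply, inv_inv]
      calc g0⁻¹ * a * g0 * t = g0⁻¹ * (a * (g0 * t * g0⁻¹)) * g0 := by group
        _ = g0⁻¹ * ((g0 * t * g0⁻¹) * a) * g0 := by rw [h]
        _ = t * (g0⁻¹ * a * g0) := by group)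
  have hlt : ¬ R1 ≤ U := by
    intro hle
    have hk : c0 * g0⁻¹ ∈ normalizer (A : Set G) := by
      refine hc.mem_normalizer_of_conj fun a ha => ?_
      have h := hle (hc0R _ ⟨a, ha, rfl⟩)
      rw [show c0 * g0⁻¹ * a * (c0 * g0⁻¹)⁻¹ = c0 * (g0⁻¹ * a * g0⁻¹⁻¹) * c0⁻¹ by group]
      exact (Subgroup.mem_inf.mp h).1
    -- then `A` centralizes `t`
    obtain ⟨a, ha, -, -, hat, -, -⟩ := hc.exists_two_moved htS htA ht2
    refine hat ?_
    have h1 : (c0 * g0⁻¹)⁻¹ * a * (c0 * g0⁻¹) ∈ A := (mem_normalizer_iff''.mp hk a).mp ha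
    have h := (Subgroup.mem_inf.mp (hle (hc0R _ ⟨_, h1, rfl⟩))).2
    simp only [MulEquiv.coe_toMonoidHom, MulAut.conj_apply] at h
    rw [show c0 * (g0⁻¹ * ((c0 * g0⁻¹)⁻¹ * a * (c0 * g0⁻¹)) * g0⁻¹⁻¹) * c0⁻¹ = a by group] at h
    exact mem_centralizer_singleton_iff.mp h
  obtain ⟨U1, hU1R, hUU1, hU1N, v, hv, hvU⟩ : ∃ U1 : Subgroup G, U1 ≤ R1 ∧ U ≤ U1 ∧
      U1 ≤ normalizer (U : Set G) ∧ ∃ v ∈ U1, v ∉ U := by
    have hlt' : U.subgroupOf R1 < ⊤ := by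
      rw [lt_top_iff_ne_top, Ne, subgroupOf_eq_top]; exact hlt
    haveI := hR1.isNilpotent
    obtain ⟨v, hv, hvU⟩ := SetLike.exists_of_lt
      ((Group.normalizerCondition_of_isNilpotent (G := R1)) _ hlt')
    refine ⟨R1 ⊓ normalizer (U : Set G), inf_le_left, le_inf hUR1 le_normalizer, inf_le_right,
      (v : G), Subgroup.mem_inf.mpr ⟨v.2, (subgroupOf_normalizer_eq hUR1).ge hv⟩, hvU⟩
  set N : Subgroup G := normalizer (U : Set G) with hN
  have hAN : A ≤ N := by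
    intro a ha
    refine mem_normalizer_of_maps fun u hu => ?_
    obtain ⟨huS, hut⟩ := Subgroup.mem_inf.mp hu
    have hut' : Commute u t := mem_centralizer_singleton_iff.mp hut
    refine Subgroup.mem_inf.mpr ⟨mul_mem (mul_mem (hc.A_le ha) huS) (inv_mem (hc.A_le ha)),
      mem_centralizer_singleton_iff.mpr ?_⟩
    rw [show a * u * a⁻¹ = (u * a * u⁻¹ * a⁻¹)⁻¹ * u by group]
    exact ((hc.comm_step' htS htA ht2 huS hut' ha).inv_left.mul_left hut').eq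
  obtain ⟨R, hR, -, hPR, c, hcN, hcR⟩ := exists_conj_mem_two N (A ⊔ U) U1
    (S.isPGroup'.to_le (sup_le hc.A_le inf_le_left)) (hR1.to_le hU1R)
    (sup_le hAN le_normalizer) hU1N
  obtain ⟨W, hW⟩ := hR.exists_le_sylow
  obtain ⟨x, hx⟩ := MulAction.exists_smul_eq G W S
  have hxS : ∀ {y : G}, y ∈ R → x * y * x⁻¹ ∈ (S : Subgroup G) := by
    intro y hy; rw [← hx]; exact ⟨y, hW hy, rfl⟩
  have hxA : x ∈ normalizer (A : Set G) :=
    hc.mem_normalizer_of_conj fun y hy => hxS (hPR (mem_sup_left hy))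
  have htU : t ∈ U := Subgroup.mem_inf.mpr ⟨htS, mem_centralizer_singleton_iff.mpr rfl⟩
  refine not_fuse t c htS htA ht2 (fun w hw hwA => htmax _ ⟨hw, hwA, g0 * w⁻¹, ?_⟩) hcN ?_ hc
  · rwa [show g0 * w⁻¹ * (w * t * w⁻¹) * (g0 * w⁻¹)⁻¹ = g0 * t * g0⁻¹ by group]
  by_contra hctA
  set t3 := x * (c * t * c⁻¹) * x⁻¹ with ht3
  have hle := htmax t3 ⟨hxS (hcR t (hUU1 htU)),
    fun h => hctA ((mem_normalizer_iff.mp hxA _).mpr h), g0 * (x * c)⁻¹, by
      rwa [ht3, show g0 * (x * c)⁻¹ * (x * (c * t * c⁻¹) * x⁻¹) * (g0 * (x * c)⁻¹)⁻¹ =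
        g0 * t * g0⁻¹ by group]⟩
  have hsub : U1.map (MulAut.conj (x * c)).toMonoidHom ≤
      (S : Subgroup G) ⊓ centralizer {t3} := by
    rintro _ ⟨u, hu, rfl⟩
    simp only [MulEquiv.coe_toMonoidHom, MulAut.conj_apply]
    refine Subgroup.mem_inf.mpr ⟨?_, mem_centralizer_singleton_iff.mpr ?_⟩
    · rw [show x * c * u * (x * c)⁻¹ = x * (c * u * c⁻¹) * x⁻¹ by group]
      exact hxS (hcR u hu)
    · have h1 := mem_centralizer_singleton_iff.mp (hR1C (hU1R hu))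
      rw [ht3]
      calc x * c * u * (x * c)⁻¹ * (x * (c * t * c⁻¹) * x⁻¹)
          = x * c * (u * t) * (x * c)⁻¹ := by group
        _ = x * c * (t * u) * (x * c)⁻¹ := by rw [h1]
        _ = x * (c * t * c⁻¹) * x⁻¹ * (x * c * u * (x * c)⁻¹) := by group
  have h1 := (card_le_of_le hsub).trans hle
  rw [card_map_of_injective (MulAut.conj (x * c)).injective] at h1
  exact hvU ((eq_of_le_of_card_ge hUU1 h1).ge hv)

end Coord

end Cfsg.Agent.M24Type41
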