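import Cfsg.Agent.M24Type41.Tables
import Mathlib.GroupTheory.Sylow

/-!
# Groups of linear maps of the group of order 64 with the given Sylow 2-subgroup
-/

set_option autoImplicit false

namespace Cfsg.Agent.M24Type41

theorem act_inv_act (d : D8) (k : V) : act d⁻¹ (act d k) = k := by
  rw [← act_mul, inv_mul_cancel, act_one]

/-- The dihedral group as permutations. -/
def actHom : D8 →* Equiv.Perm V where
  toFun d :=
    { toFun := act d
      invFun := act d⁻¹
      left_inv := act_inv_act d
      right_inv := fun k => by
        have h := act_inv_act d⁻¹ k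
        rwa [inv_inv] at h }
  map_one' := Equiv.ext fun k => act_one k
  map_mul' a b := Equiv.ext fun k => act_mul a b k

theorem actHom_apply (d : D8) (k : V) : actHom d k = act d k := rfl

theorem actHom_injective : Function.Injective actHom := by
  rw [injective_iff_map_eq_one]
  intro d hd
  by_contra hne
  obtain ⟨k, hk⟩ := act_faithful d hne
  exact hk (by rw [← actHom_apply, hd]; rfl)

/-- A group of linear maps with the dihedral group as a Sylow 2-subgroup. -/
structure XHyp (X : Subgroup (Equiv.Perm V)) : Prop where
  lin : ∀ σ ∈ X, ∀ i j : V, σ (i ^^^ j) = σ i ^^^ σ j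
  sylow : ∃ P : Sylow 2 X, (P : Subgroup X).map X.subtype = actHom.range

end Cfsg.Agent.M24Type41
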