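import Cfsg.Agent.M24Type41.Basic
import Cfsg.Agent.M24Type41.Levels
import Cfsg.Agent.M24Type41.XDefs
import Cfsg.Agent.M24Type41.StrongClosed
import Cfsg.Agent.StrClosed41.Local

/-!
# The action of the normalizer of the group of order 64 in coordinates
-/

set_option autoImplicit false

namespace Cfsg.Agent.M24Type41

open Subgroup StrClosed41

variable {G : Type*} [Group G] {S : Sylow 2 G} {A : Subgroup G}
  (hc : Coord (S : Subgroup G) A)

namespace Coord

/-- The coordinates as a bijection. -/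
noncomputable def eqv : V ≃ A :=
  Equiv.ofBijective (fun i => ⟨hc.α i, hc.α_mem i⟩)
    ⟨fun i j h => hc.α_injective (congrArg Subtype.val h), fun x => by
      obtain ⟨i, hi⟩ := (hc.mem_A x.1).mp x.2
      exact ⟨i, Subtype.ext hi⟩⟩

theorem eqv_apply (i : V) : (hc.eqv i : G) = hc.α i := rfl

/-- The coordinates of an element. -/
noncomputable def coor (x : A) : V := hc.eqv.symm x

theorem α_coor (x : A) : hc.α (hc.coor x) = x := by
  rw [← hc.eqv_apply, coor, Equiv.apply_symm_apply]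

/-- The action of the normalizer in coordinates, as a function. -/
noncomputable def actN (n : normalizer (A : Set G)) (k : V) : V :=
  hc.coor ⟨(n : G) * hc.α k * (n : G)⁻¹, (mem_normalizer_iff.mp n.2 _).mp (hc.α_mem k)⟩

theorem α_actN (n : normalizer (A : Set G)) (k : V) :
    hc.α (hc.actN n k) = (n : G) * hc.α k * (n : G)⁻¹ :=
  hc.α_coor _

theorem actN_mul (m n : normalizer (A : Set G)) (k : V) :
    hc.actN (m * n) k = hc.actN m (hc.actN n k) := by
  refine hc.α_injective ?_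
  rw [hc.α_actN, hc.α_actN, hc.α_actN, Subgroup.coe_mul]
  group

theorem actN_one (k : V) : hc.actN 1 k = k := by
  refine hc.α_injective ?_
  rw [hc.α_actN, Subgroup.coe_one]
  group

/-- The action of the normalizer in coordinates. -/
noncomputable def ψ : normalizer (A : Set G) →* Equiv.Perm V where
  toFun n :=
    { toFun := hc.actN n
      invFun := hc.actN n⁻¹
      left_inv := fun k => by rw [← hc.actN_mul, inv_mul_cancel, hc.actN_one]
      right_inv := fun k => by rw [← hc.actN_mul, mul_inv_cancel, hc.actN_one] }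
  map_one' := Equiv.ext hc.actN_one
  map_mul' m n := Equiv.ext (hc.actN_mul m n)

theorem α_ψ (n : normalizer (A : Set G)) (k : V) :
    hc.α (hc.ψ n k) = (n : G) * hc.α k * (n : G)⁻¹ :=
  hc.α_actN n k

theorem ψ_eq_one (n : normalizer (A : Set G)) :
    hc.ψ n = 1 ↔ (n : G) ∈ centralizer (A : Set G) := by
  constructor
  · intro h
    refine mem_centralizer_iff.mpr fun x hx => ?_
    obtain ⟨k, rfl⟩ := (hc.mem_A x).mp hx
    have h1 := hc.α_ψ n k
    rw [h, Equiv.Perm.one_apply] at h1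
    exact (eq_mul_inv_iff_mul_eq.mp h1)
  · intro h
    refine Equiv.ext fun k => hc.α_injective ?_
    rw [hc.α_ψ, ← mem_centralizer_iff.mp h _ (hc.α_mem k), mul_inv_cancel_right,
      Equiv.Perm.one_apply]

theorem ψ_el (i : V) (a : D8) :
    hc.ψ ⟨hc.α i * hc.β a,
      hc.le_normalizer_A (mul_mem (hc.A_le (hc.α_mem i)) (hc.β_mem a))⟩ = actHom a :=
  Equiv.ext fun k => hc.α_injective (by rw [hc.α_ψ, hc.conj_α, actHom_apply])

theorem ψ_lin (n : normalizer (A : Set G)) (i j : V) :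
    hc.ψ n (i ^^^ j) = hc.ψ n i ^^^ hc.ψ n j := by
  refine hc.α_injective ?_
  rw [hc.α_ψ, ← hc.mul_α, ← hc.mul_α, hc.α_ψ, hc.α_ψ]
  group

include hc

variable [Finite G]

theorem xhyp : XHyp hc.ψ.range := by
  haveI : Fact (Nat.Prime 2) := ⟨Nat.prime_two⟩
  refine ⟨?_, ?_⟩
  · rintro _ ⟨n, rfl⟩ i j
    exact hc.ψ_lin n i j
  · refine ⟨(S.subtype hc.le_normalizer_A).mapSurjective hc.ψ.rangeRestrict_surjective, ?_⟩
    rw [Sylow.coe_mapSurjective, Subgroup.map_map, MonoidHom.subtype_comp_rangeRestrict]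
    ext σ
    constructor
    · rintro ⟨n, hn, rfl⟩
      obtain ⟨i, a, hia⟩ := (hc.mem_S _).mp (mem_subgroupOf.mp hn)
      refine ⟨a, ?_⟩
      rw [← hc.ψ_el i a]
      exact congrArg hc.ψ (Subtype.ext hia)
    · rintro ⟨a, rfl⟩
      exact ⟨_, mem_subgroupOf.mpr (mul_mem (hc.A_le (hc.α_mem 0)) (hc.β_mem a)), hc.ψ_el 0 a⟩

/-- A 2-element centralizing `A` lies in `A`. -/
theorem mem_of_centralizer {x : G} (hx : x ∈ centralizer (A : Set G))
    (hx2 : IsPGroup 2 (zpowers x)) : x ∈ A := by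
  haveI : Fact (Nat.Prime 2) := ⟨Nat.prime_two⟩
  have hP : IsPGroup 2 ↥(zpowers x ⊔ A) := by
    refine hx2.to_sup_of_normal_right' (S.isPGroup'.to_le hc.A_le) (zpowers_le.mpr ?_)
    exact centralizer_le_normalizer _ hx
  obtain ⟨W, hW⟩ := hP.exists_le_sylow
  obtain ⟨g, hg⟩ := MulAction.exists_smul_eq G W S
  have hgS : ∀ {y : G}, y ∈ zpowers x ⊔ A → g * y * g⁻¹ ∈ (S : Subgroup G) := by
    intro y hy; rw [← hg]; exact ⟨y, hW hy, rfl⟩
  have hgA : g ∈ normalizer (A : Set G) :=
    hc.mem_normalizer_of_conj fun y hy => hgS (mem_sup_right hy)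
  obtain ⟨i, a, hia⟩ := (hc.mem_S _).mp (hgS (mem_sup_left (mem_zpowers x)))
  refine (mem_normalizer_iff.mp hgA x).mpr ?_
  rw [← hia, hc.mem_A_iff]
  by_contra hne
  obtain ⟨k, hk⟩ := act_faithful a hne
  refine hk ((hc.commute_α_iff i k a).mp ?_)
  rw [hia]
  have h1 := mem_centralizer_iff.mp hx _ ((mem_normalizer_iff''.mp hgA _).mp (hc.α_mem k))
  show _ * _ = _ * _
  calc hc.α k * (g * x * g⁻¹) = g * (g⁻¹ * hc.α k * g * x) * g⁻¹ := by group
    _ = g * (x * (g⁻¹ * hc.α k * g)) * g⁻¹ := by rw [h1]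
    _ = g * x * g⁻¹ * hc.α k := by group

theorem centralizer_complement : Cfsg.HasNormalPComplement 2 ↥(centralizer (A : Set G)) :=
  hasNormalPComplement_centralizer hc.elementary fun _ hx hx2 => hc.mem_of_centralizer hx hx2

end Coord

end Cfsg.Agent.M24Type41
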