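import Mathlib.GroupTheory.SpecificGroups.Dihedral

/-!
# The action of the dihedral group on the elementary abelian group of order 64

The action inside the quotient of a Sylow 2-subgroup of `M24` by its centre, in coordinates, and
the finite facts about it that are used for S3169.
-/

set_option autoImplicit false

namespace Cfsg.Agent.M24Type41

/-- The dihedral group of order eight. -/
abbrev D8 := DihedralGroup 4

/-- Coordinates of the elementary abelian group of order 64. -/
abbrev V := Fin 64

/-- Position of a dihedral element in the tables. -/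
def code : D8 → ℕ
  | DihedralGroup.r i => i.val
  | DihedralGroup.sr i => 4 + i.val

/-- The coset representative of a dihedral element in the numbering of `M24SylowData`. -/
def repIdx (d : D8) : ℕ := [0, 6, 1, 7, 2, 4, 3, 5].getD (code d) 0

/-- Images, packed in base 64. -/
def rows : List ℕ := [
  39392078757191557952714343944915560488424390381760365930566598193007564623154681709773698286566728461254900444831808,
  23736674183604363827298332064274327499362576799987859824711189774667583023990486947610567345801936469824103210578240,
  11873828205956652447715570197229939957900989983816639671749497704393516169052973842921879647721070580377842993619008,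
  6302239387679388420647102472899726258994407490788011802719982828142077184950905692867334794557489202914137975828800,
  11267791453434371648750692520761661637730306239561721580196885396431583416049883862965558339726666134144667606347840,
  21918564215018560354176800715989129899141169524393455167980316553327592628252028135281706983501595298578989265461568,
  38786042004669277153749466268447282168253705291336255626916422089569735441843264081771197945398730489607920340709440,
  9332422861309753491698389174121480499557183601061444854653644460881829515003872113155016806020232792039407412339008]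

/-- The action. -/
def act (d : D8) (k : V) : V :=
  ⟨(rows.getD (code d) 0 >>> (6 * k.val)) % 64, Nat.mod_lt _ (by norm_num)⟩

/-- The central involution. -/
def zc : D8 := DihedralGroup.r 2

/-- An involution. -/
abbrev Inv (a : D8) : Prop := a * a = 1 ∧ a ≠ 1

/-- A noncentral involution. -/
abbrev Nc (a : D8) : Prop := a * a = 1 ∧ a ≠ 1 ∧ a ≠ zc

/-- Membership in the commutator space `[V, a]`. -/
abbrev InV (a : D8) (v : V) : Prop := ∃ k : V, act a k ^^^ k = v

/-- One step towards a fixed point. -/
def step (v : V) : V :=
  (((([DihedralGroup.r 0, DihedralGroup.r 1, DihedralGroup.r 2, DihedralGroup.r 3,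
    DihedralGroup.sr 0, DihedralGroup.sr 1, DihedralGroup.sr 2, DihedralGroup.sr 3] : List D8).map
      fun d => act d v ^^^ v).find? fun w => w != 0)).getD v

/-- The endomorphism with given images of the generators. -/
def endo (p q : D8) : D8 → D8
  | DihedralGroup.r i => p ^ i.val
  | DihedralGroup.sr i => q * p ^ i.val

theorem act_mul : ∀ a b : D8, ∀ k : V, act (a * b) k = act a (act b k) := by decide +kernel

theorem act_one : ∀ k : V, act 1 k = k := by decide +kernel

theorem act_xor : ∀ a : D8, ∀ i j : V, act a (i ^^^ j) = act a i ^^^ act a j := by decide +kernel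

theorem act_faithful : ∀ a : D8, a ≠ 1 → ∃ k : V, act a k ≠ k := by decide +kernel

theorem comm_step : ∀ a b : D8, Inv a → a * b = b * a → ∀ k : V,
    act a (act b k ^^^ k) = act b k ^^^ k := by decide +kernel

theorem cent_fix : ∀ a b : D8, Inv a → (∀ k : V, act a k = k → act b k = k) → b = 1 ∨ b = a := by
  decide +kernel

theorem normalize_fix : ∀ a b : D8, Inv a → (∀ k : V, act a k = k → act a (act b k) = act b k) →
    ∀ i : V, act a i = i → a * b = b * a ∧ InV a (act b i ^^^ i) := by decide +kernel

theorem two_moved : ∀ a : D8, Inv a → ∃ k l : V, act a k ≠ k ∧ act a l ≠ l ∧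
    act a (k ^^^ l) ≠ k ^^^ l := by decide +kernel

theorem layer_V : ∀ a b : D8, Inv a → a * b = b * a → ∀ k : V,
    act b (act a k ^^^ k) = act a k ^^^ k := by decide +kernel

theorem layer_fix : ∀ a b : D8, Inv a → a * b = b * a → ∀ k : V, act a k = k →
    InV a (act b k ^^^ k) := by decide +kernel

theorem fixed_all : ∀ k : V, (∀ d : D8, act d k = k) → k = 0 ∨ k = 4 ∨ k = 40 ∨ k = 44 := by
  decide +kernel

theorem fixed_mem : ∀ d : D8, act d 0 = 0 ∧ act d 4 = 4 ∧ act d 40 = 40 ∧ act d 44 = 44 := by
  decide +kernel

theorem c0_mem : InV zc 44 := by decide +kernel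

theorem c_mem : InV zc 4 ∧ InV zc 40 := by decide +kernel

theorem c0_not_mem : ∀ a : D8, Nc a → ¬ InV a 44 := by decide +kernel

theorem c_not_mem : (∃ a : D8, Nc a ∧ ¬ InV a 4) ∧ ∃ a : D8, Nc a ∧ ¬ InV a 40 := by
  decide +kernel

theorem V_ne : ∀ a : D8, Nc a → ∃ k : V, ¬ InV a (act zc k ^^^ k) := by decide +kernel

theorem fix_ne : ∀ a : D8, Nc a → ∃ k : V, act zc k = k ∧ act a k ≠ k := by decide +kernel

theorem step_fixed : ∀ v : V, v ≠ 0 → step^[6] v ≠ 0 ∧ ∀ d : D8, act d (step^[6] v) = step^[6] v := by
  decide +kernel

theorem endo_pow : ∀ p q : D8, (∀ a b : D8, endo p q (a * b) = endo p q a * endo p q b) →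
    (∀ a : D8, endo p q a = 1 → a = 1) → ∀ a : D8, (endo p q)^[8] a = a := by decide +kernel

theorem endo_self : ∀ f : D8, ∃ i : ZMod 4, f = DihedralGroup.r i ∨ f = DihedralGroup.sr i := by
  decide +kernel

theorem zc_inv : Inv zc := by decide +kernel

theorem zc_central : ∀ a : D8, zc * a = a * zc := by decide +kernel

theorem zc_unique : ∀ a : D8, Inv a → (∀ b : D8, a * b = b * a) → a = zc := by decide +kernel

theorem sq_eq_zc : DihedralGroup.r 1 * DihedralGroup.r 1 = zc := by decide +kernel

theorem nc_conj : ∀ a : D8, Nc a → ∃ d : D8, d * a * d⁻¹ = zc * a := by decide +kernel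

theorem nc_commute : ∀ a b : D8, Nc a → a * b = b * a → b = 1 ∨ b = zc ∨ b = a ∨ b = zc * a := by
  decide +kernel

theorem nc_class : ∀ a b : D8, Nc a → Nc b → b ≠ a → b ≠ zc * a → ∀ c : D8, Nc c →
    c = a ∨ c = zc * a ∨ c = b ∨ c = zc * b := by decide +kernel

theorem nc_gen : ∀ a b : D8, Nc a → Nc b → b ≠ a → b ≠ zc * a → ∀ c : D8,
    c = 1 ∨ c = zc ∨ c = a ∨ c = zc * a ∨ c = b ∨ c = zc * b ∨ c = a * b ∨ c = b * a := by
  decide +kernel

end Cfsg.Agent.M24Type41
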