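import Cfsg.Agent.InvChar.M24SylowQuotient
import Cfsg.Agent.M24Type41.Tables
import Cfsg.Prelude.Def_TwoFusion

/-!
# Coordinates in the quotient of a Sylow 2-subgroup of `M24` by its centre
-/

set_option autoImplicit false

namespace Cfsg.Agent.M24Type41

open Subgroup InvChar.M24Syl

variable {G : Type*} [Group G]

/-- The standing hypothesis: `S` is a split extension of `A` by the dihedral group of order 8,
with the action of `Tables`, and `A` is its only abelian subgroup of order 64. -/
structure Coord (S A : Subgroup G) where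
  /-- Coordinates of `A`. -/
  α : V → G
  /-- A complement. -/
  β : D8 →* G
  mul_α : ∀ i j, α i * α j = α (i ^^^ j)
  conj : ∀ a k, β a * α k = α (act a k) * β a
  inj : ∀ i j a b, α i * β a = α j * β b → i = j ∧ a = b
  mem_A : ∀ x, x ∈ A ↔ ∃ i, α i = x
  mem_S : ∀ x, x ∈ S ↔ ∃ i a, α i * β a = x
  uniq : ∀ B : Subgroup G, B ≤ S → IsMulCommutative ↥B → Nat.card ↥B = 64 → B = A

/-- All dihedral elements. -/
def allD : List D8 := [DihedralGroup.r 0, DihedralGroup.r 1, DihedralGroup.r 2, DihedralGroup.r 3,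
    DihedralGroup.sr 0, DihedralGroup.sr 1, DihedralGroup.sr 2, DihedralGroup.sr 3]

theorem mem_allD : ∀ d : D8, d ∈ allD := by decide +kernel

/-- The coset representatives form a complement. -/
def chkMulD : Bool := allD.all fun a => allD.all fun b =>
  Golay.comp (tR (repIdx a)) (tR (repIdx b)) == tR (repIdx (a * b))

/-- Multiplication by a basis vector. -/
def chkBasis : Bool := (List.range 64).all fun i => (List.range 6).all fun b =>
  decide (look eTab (2 * i) (b + 1) / 2 = i ^^^ 2 ^ b)

/-- The action of a generator on a basis vector. -/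
def chkGenAct : Bool := allD.all fun d => (List.range 3).all fun t => repIdx d != 2 ^ t ||
  (List.range 6).all fun b =>
    decide ((act d ⟨2 ^ b % 64, Nat.mod_lt _ (by omega)⟩).val = look cTab t (b + 1) / 2)

theorem chkMulD_ok : chkMulD = true := by decide +kernel
theorem chkBasis_ok : chkBasis = true := by decide +kernel
theorem chkGenAct_ok : chkGenAct = true := by decide +kernel

theorem exists_lower : ∀ j : V, j ≠ 0 → ∃ b : Fin 6,
    (j ^^^ (⟨2 ^ b.val % 64, Nat.mod_lt _ (by omega)⟩ : V)).val < j.val := by decide +kernel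

theorem xor_self : ∀ i : V, i ^^^ i = 0 ∧ i ^^^ 0 = i ∧ 0 ^^^ i = i := by decide +kernel

theorem xor_comm' : ∀ i j : V, i ^^^ j = j ^^^ i := fun i j =>
  Fin.ext (by simp [Fin.xor_val, Nat.xor_comm])

theorem xor_val' (i j : V) : (i ^^^ j).val = i.val ^^^ j.val := by
  have := Nat.xor_lt_two_pow (n := 6) i.2 j.2
  simp only [Fin.xor_val]
  exact Nat.mod_eq_of_lt this

theorem xor_assoc' (i j k : V) : (i ^^^ j) ^^^ k = i ^^^ (j ^^^ k) :=
  Fin.ext (by rw [xor_val', xor_val', xor_val', xor_val', Nat.xor_assoc])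

theorem gen_decomp : ∀ a : D8, ∃ x y z : D8, a = x * y * z ∧ (x = 1 ∨ repIdx x = 2 ^ 0) ∧
    (y = 1 ∨ repIdx y = 2 ^ 1) ∧ (z = 1 ∨ repIdx z = 2 ^ 2) := by decide +kernel

theorem repIdx_spec : (∀ d : D8, repIdx d < 8) ∧ (∀ d e : D8, repIdx d = repIdx e → d = e) ∧
    repIdx 1 = 0 ∧ ∀ a : Fin 8, ∃ d : D8, repIdx d = a.val := by
  decide +kernel

/-- The coordinates, from a map of the Sylow subgroup of `M24` onto `S` killing exactly the
centre. -/
theorem exists_coord (S A : Subgroup G) (f : PP →* G) (hf : f.range = S) (hk : f.ker = center PP)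
    (huniq : ∀ B : Subgroup G, B ≤ S → IsMulCommutative ↥B → Nat.card ↥B = 64 → B = A) :
    Nonempty (Coord S A) := by
  have hz : f ⟨gen 0, subset_closure ⟨0, by norm_num, rfl⟩⟩ = 1 := by
    rw [← MonoidHom.mem_ker, hk, mem_center_iff']
    exact Or.inr rfl
  have hodd : ∀ k < 64, f ⟨elE (2 * k + 1), EE_le_PP (elE_mem _)⟩ =
      f ⟨elE (2 * k), EE_le_PP (elE_mem _)⟩ := by
    intro k hk'
    have h := chkOdd_ok
    simp only [chkOdd, List.all_eq_true, List.mem_range, beq_iff_eq] at h
    rw [show (⟨elE (2 * k + 1), EE_le_PP (elE_mem _)⟩ : PP) =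
      ⟨gen 0, subset_closure ⟨0, by norm_num, rfl⟩⟩ * ⟨elE (2 * k), EE_le_PP (elE_mem _)⟩ from
      Subtype.ext (enc_injective (by
        rw [coe_mul, enc_mul, enc_elE, enc_gen, enc_elE]; exact h k hk')), map_mul, hz, one_mul]
  let α : V → G := fun k => f ⟨elE (2 * k.val), EE_le_PP (elE_mem _)⟩
  let ρ : D8 →* PP :=
    { toFun := fun d => ⟨elR (repIdx d), elR_mem _⟩
      map_one' := Subtype.ext (by rw [repIdx_spec.2.2.1]; rfl)
      map_mul' := fun a b => Subtype.ext (enc_injective (by
        have h := chkMulD_ok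
        simp only [chkMulD, List.all_eq_true, beq_iff_eq] at h
        rw [coe_mul, enc_mul, enc_elR, enc_elR, enc_elR]
        exact (h a (mem_allD a) b (mem_allD b)).symm)) }
  have hhalf : ∀ i < 128, ∀ k : V, k.val = i / 2 →
      f ⟨elE i, EE_le_PP (elE_mem i)⟩ = α k := by
    intro i hi k hkv
    rcases Nat.mod_two_eq_zero_or_one i with h0 | h1
    · exact congrArg f (Subtype.ext (show elE i = elE (2 * k.val) by congr 1; omega))
    · refine Eq.trans ?_ (hodd k.val k.2)
      exact congrArg f (Subtype.ext (show elE i = elE (2 * k.val + 1) by congr 1; omega))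
  let bv : ℕ → V := fun b => ⟨2 ^ b % 64, Nat.mod_lt _ (by omega)⟩
  have hbv : ∀ b < 6, (bv b).val = 2 ^ b := fun b hb =>
    Nat.mod_eq_of_lt (show 2 ^ b < 2 ^ 6 from Nat.pow_lt_pow_right (by norm_num) hb)
  let g : ∀ b : ℕ, b < 6 → PP := fun b hb =>
    ⟨gen (b + 1), subset_closure ⟨b + 1, by omega, rfl⟩⟩
  have hstep : ∀ (i : V) (b : ℕ) (hb : b < 6), α i * f (g b hb) = α (i ^^^ bv b) := by
    intro i b hb
    have h := chkE_ok
    simp only [chkE, List.all_eq_true, List.mem_range, Bool.and_eq_true, decide_eq_true_eq,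
      beq_iff_eq] at h
    obtain ⟨hlt, he⟩ := h (2 * i.val) (by omega) (b + 1) (by omega)
    have h2 := chkBasis_ok
    simp only [chkBasis, List.all_eq_true, List.mem_range, decide_eq_true_eq] at h2
    show f _ * f _ = _
    rw [← map_mul]
    have he' : (⟨elE (2 * i.val), EE_le_PP (elE_mem _)⟩ : PP) * g b hb =
        ⟨elE (look eTab (2 * i.val) (b + 1)), EE_le_PP (elE_mem _)⟩ :=
      Subtype.ext (enc_injective (by
        show enc (elE _ * gen _) = enc (elE _)
        rw [enc_mul, enc_elE, enc_gen, enc_elE]; exact he))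
    rw [he']
    exact hhalf _ hlt _ (by rw [xor_val', hbv b hb]; exact (h2 i.val i.2 b hb).symm)
  have hα0 : α 0 = 1 := by
    show f _ = 1
    rw [← map_one f]
    rfl
  have hgen : ∀ (b : ℕ) (hb : b < 6), f (g b hb) = α (bv b) := by
    intro b hb
    have h := hstep 0 b hb
    rwa [hα0, one_mul, (xor_self _).2.2] at h
  have hmul : ∀ i j, α i * α j = α (i ^^^ j) := by
    suffices ∀ n, ∀ j : V, j.val = n → ∀ i, α i * α j = α (i ^^^ j) from
      fun i j => this _ j rfl i
    intro n
    induction n using Nat.strong_induction_on with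
    | _ n ih =>
      intro j hj i
      by_cases h0 : j = 0
      · rw [h0, hα0, mul_one, (xor_self i).2.1]
      · obtain ⟨b, hb⟩ := exists_lower j h0
        have hsplit : j = (j ^^^ bv b.val) ^^^ bv b.val := by
          rw [xor_assoc', (xor_self _).1, (xor_self j).2.1]
        have h1 : α j = α (j ^^^ bv b.val) * α (bv b.val) := by
          conv_lhs => rw [hsplit]
          rw [← hgen b.val b.2, hstep _ _ b.2]
        rw [h1, ← mul_assoc, ih _ (hj ▸ hb) _ rfl, ← hgen b.val b.2, hstep _ _ b.2, xor_assoc',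
          ← hsplit]
  have hconj : ∀ a k, f (ρ a) * α k = α (act a k) * f (ρ a) := by
    let Q : D8 → Prop := fun a => ∀ k, f (ρ a) * α k = α (act a k) * f (ρ a)
    have hQmul : ∀ a b, Q a → Q b → Q (a * b) := by
      intro a b ha hb k
      rw [map_mul, map_mul, mul_assoc, hb k, ← mul_assoc, ha, mul_assoc, ← act_mul]
    have hQ1 : Q 1 := fun k => by rw [map_one, map_one, one_mul, mul_one, act_one]
    have hQgen : ∀ a : D8, ∀ t < 3, repIdx a = 2 ^ t → Q a := by
      intro a t ht hat
      have hbasis : ∀ b < 6, f (ρ a) * α (bv b) = α (act a (bv b)) * f (ρ a) := by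
        intro b hb
        have h := chkC_ok
        simp only [chkC, List.all_eq_true, List.mem_range, Bool.and_eq_true, decide_eq_true_eq,
          beq_iff_eq] at h
        obtain ⟨hlt, he⟩ := h t ht (b + 1) (by omega)
        have h2 := chkGenAct_ok
        simp only [chkGenAct, List.all_eq_true, List.mem_range, Bool.or_eq_true, bne_iff_ne, ne_eq,
          decide_eq_true_eq] at h2
        have h3 := ((h2 a (mem_allD a) t ht).resolve_left (not_not.mpr hat)) b hb
        rw [← hgen b hb, ← hhalf _ hlt (act a (bv b)) h3, ← map_mul, ← map_mul]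
        refine congrArg f (Subtype.ext ?_)
        show elR (repIdx a) * gen (b + 1) = elE _ * elR (repIdx a)
        have hR : elR (repIdx a) = gen (t + 7) := by
          rw [hat]
          rcases (show t = 0 ∨ t = 1 ∨ t = 2 by omega) with rfl | rfl | rfl <;>
            exact mul_one _
        exact enc_injective (by rw [hR, enc_mul, enc_mul, enc_gen, enc_gen, enc_elE]; exact he)
      suffices ∀ n, ∀ k : V, k.val = n → f (ρ a) * α k = α (act a k) * f (ρ a) from
        fun k => this _ k rfl
      intro n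
      induction n using Nat.strong_induction_on with
      | _ n ih =>
        intro k hk'
        by_cases h0 : k = 0
        · rw [h0, hα0, mul_one, (fixed_mem a).1, hα0, one_mul]
        · obtain ⟨b, hb⟩ := exists_lower k h0
          have hsplit : k = (k ^^^ bv b.val) ^^^ bv b.val := by
            rw [xor_assoc', (xor_self _).1, (xor_self k).2.1]
          rw [hsplit, ← hmul, ← mul_assoc, ih _ (hk' ▸ hb) _ rfl, mul_assoc, hbasis _ b.2,
            ← mul_assoc, hmul, ← act_xor]
    intro a
    obtain ⟨x, y, z, ha, hx, hy, hz'⟩ := gen_decomp a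
    rw [ha]
    refine hQmul _ _ (hQmul _ _ ?_ ?_) ?_
    · rcases hx with rfl | hx
      exacts [hQ1, hQgen x 0 (by omega) hx]
    · rcases hy with rfl | hy
      exacts [hQ1, hQgen y 1 (by omega) hy]
    · rcases hz' with rfl | hz'
      exacts [hQ1, hQgen z 2 (by omega) hz']
  have hinj : ∀ i j a b, α i * f (ρ a) = α j * f (ρ b) → i = j ∧ a = b := by
    intro i j a b he
    have hπ : ∀ x y : PP, f x = f y →
        (x : ↥Cfsg.M24) = y ∨ (x : ↥Cfsg.M24) = y * gen 0 := by
      intro x y hxy
      have hkm : y⁻¹ * x ∈ f.ker := by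
        rw [MonoidHom.mem_ker, map_mul, map_inv, hxy, inv_mul_cancel]
      rw [hk, mem_center_iff', coe_mul, coe_inv] at hkm
      rcases hkm with hkm | hkm
      · exact Or.inl (inv_mul_eq_one.mp hkm).symm
      · exact Or.inr (inv_mul_eq_iff_eq_mul.mp hkm)
    have hab : a = b := by
      refine repIdx_spec.2.1 _ _ (eq_of_elR_inv_mul (repIdx_spec.1 a) (repIdx_spec.1 b) ?_)
      have hz' : gen 0 ∈ EE := subset_closure ⟨0, by norm_num, rfl⟩
      have hcases := hπ (⟨elE (2 * i.val), EE_le_PP (elE_mem _)⟩ * ρ a)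
        (⟨elE (2 * j.val), EE_le_PP (elE_mem _)⟩ * ρ b) (by rw [map_mul, map_mul]; exact he)
      obtain ⟨w, hw, hwe⟩ : ∃ w ∈ EE, elE (2 * i.val) * elR (repIdx a) = w * elR (repIdx b) := by
        rcases hcases with h | h
        · exact ⟨_, elE_mem _, h⟩
        · refine ⟨elE (2 * j.val) * gen 0, mul_mem (elE_mem _) hz', ?_⟩
          rw [mul_assoc, gen_zero_central (elR_mem _), ← mul_assoc]
          exact h
      have h2 : elR (repIdx b) = (elR (repIdx a)) * ((elR (repIdx a))⁻¹ *
          (w⁻¹ * elE (2 * i.val)) * elR (repIdx a)) := by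
        rw [← mul_assoc, ← mul_assoc, mul_inv_cancel, one_mul, mul_assoc, hwe,
          inv_mul_cancel_left]
      rw [h2, inv_mul_cancel_left]
      have := conj_mem_EE (inv_mem (elR_mem (repIdx a))) (mul_mem (inv_mem hw) (elE_mem (2 * i.val)))
      rwa [inv_inv] at this
    subst hab
    refine ⟨?_, rfl⟩
    rcases hπ _ _ (mul_right_cancel he : f _ = f _) with h | h
    · have := elE_injective (by omega) (by omega) h
      exact Fin.ext (by omega)
    · exfalso
      have h' := chkOdd_ok
      simp only [chkOdd, List.all_eq_true, List.mem_range, beq_iff_eq] at h'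
      have e : elE (2 * i.val) = elE (2 * j.val + 1) := by
        refine h.trans (enc_injective ?_)
        show enc (elE (2 * j.val) * gen 0) = _
        rw [← gen_zero_central (EE_le_PP (elE_mem _)), enc_mul, enc_elE, enc_gen, enc_elE]
        exact (h' j.val j.2).symm
      have := elE_injective (by omega) (by omega) e
      omega
  have hrng : ∀ x, x ∈ S ↔ ∃ i a, α i * f (ρ a) = x := by
    intro x
    constructor
    · rw [← hf]
      rintro ⟨u, rfl⟩
      obtain ⟨a, ha, i, hi, hu⟩ := exists_elR_mul u.2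
      obtain ⟨d, hd⟩ := repIdx_spec.2.2.2 ⟨a, ha⟩
      let k : V := ⟨i / 2, by omega⟩
      have hk2 : f ⟨elE i, EE_le_PP (elE_mem _)⟩ = α k := by
        rcases Nat.mod_two_eq_zero_or_one i with h0 | h1
        · exact congrArg f (Subtype.ext (show elE i = elE (2 * (i / 2)) by congr 1; omega))
        · refine Eq.trans ?_ (hodd (i / 2) (by omega))
          exact congrArg f (Subtype.ext (show elE i = elE (2 * (i / 2) + 1) by congr 1; omega))
      refine ⟨act d k, d, ?_⟩
      rw [← hconj, ← hk2, ← map_mul]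
      refine congrArg f (Subtype.ext ?_)
      show elR (repIdx d) * elE i = u
      rw [hd, hu]
    · rintro ⟨i, a, rfl⟩
      rw [← hf]
      exact mul_mem (MonoidHom.mem_range.mpr ⟨_, rfl⟩) (MonoidHom.mem_range.mpr ⟨_, rfl⟩)
  have h0 : f (ρ 1) = 1 := by rw [map_one, map_one]
  have hinjα : Function.Injective α := fun i j hij => (hinj i j 1 1 (by rw [hij])).1
  let A' : Subgroup G :=
    { carrier := Set.range α
      one_mem' := ⟨0, hα0⟩
      mul_mem' := by rintro _ _ ⟨i, rfl⟩ ⟨j, rfl⟩; exact ⟨_, (hmul i j).symm⟩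
      inv_mem' := by
        rintro _ ⟨i, rfl⟩
        refine ⟨i, (inv_eq_of_mul_eq_one_right ?_).symm⟩
        rw [hmul, (xor_self i).1, hα0] }
  have hA' : A' = A := by
    refine huniq A' ?_ ?_ ?_
    · rintro _ ⟨i, rfl⟩
      exact (hrng _).mpr ⟨i, 1, by rw [h0, mul_one]⟩
    · refine ⟨⟨?_⟩⟩
      rintro ⟨_, i, rfl⟩ ⟨_, j, rfl⟩
      exact Subtype.ext (by
        show α i * α j = α j * α i
        rw [hmul, hmul, xor_comm'])
    · rw [← Nat.card_eq_of_bijective (fun i => (⟨α i, i, rfl⟩ : A'))
        ⟨fun i j hij => hinjα (congrArg Subtype.val hij), by rintro ⟨_, i, rfl⟩; exact ⟨i, rfl⟩⟩]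
      simp
  exact ⟨{
    α := α
    β := f.comp ρ
    mul_α := hmul
    conj := hconj
    inj := hinj
    mem_A := fun x => by rw [← hA']; rfl
    mem_S := hrng
    uniq := huniq }⟩

end Cfsg.Agent.M24Type41
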