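import Cfsg.Agent.StrClosed41.Local

/-!
# Two small facts about cores
-/

set_option autoImplicit false

namespace Cfsg.Agent.M24Type41

open Subgroup StrClosed41

/-- The preimage of an odd normal subgroup of a quotient by a central 2-group. -/
theorem exists_core_mul_of_quotient {Y : Type*} [Group Y] [Finite Y] (Z : Subgroup Y) [Z.Normal]
    (hZc : Z ≤ center Y) (N : Subgroup (Y ⧸ Z)) [N.Normal]
    (hN : Odd (Nat.card N)) {y : Y} (hy : QuotientGroup.mk' Z y ∈ N) :
    ∃ o ∈ Cfsg.pPrimeCore 2 Y, ∃ z ∈ Z, y = o * z := by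
  haveI : Fact (Nat.Prime 2) := ⟨Nat.prime_two⟩
  set π := QuotientGroup.mk' Z with hπ
  set L := N.comap π with hL
  obtain ⟨T⟩ : Nonempty (Sylow 2 L) := inferInstance
  have hTZ : ∀ x ∈ (T : Subgroup L), (x : Y) ∈ Z := fun x hx =>
    (QuotientGroup.eq_one_iff _).mp (eq_one_of_mem_two_odd ((T.isPGroup'.map L.subtype).map π) hN
      ⟨x, ⟨x, hx, rfl⟩, rfl⟩ x.2)
  have hcomp : Cfsg.HasNormalPComplement 2 L := Transfer.hasNormalPComplement_of_control (P := T)
    fun x hx w _ ⟨g, hg⟩ => ⟨1, one_mem _, Subtype.ext (by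
      have := mem_center_iff.mp (hZc (hTZ x hx)) g
      rw [← hg]
      simp [this])⟩
  have hRO : oddPart L ≤ Cfsg.pPrimeCore 2 Y := by
    refine Thompson.le_pPrimeCore ⟨fun x hx g => ?_⟩ (Nat.coprime_two_right.mpr (odd_oddPart hcomp))
    refine conj_mem_oddPart hcomp ?_ hx
    rw [normalizer_eq_top (H := L)]
    exact mem_top g
  obtain ⟨⟨⟨u, hu⟩, ⟨t, ht⟩⟩, he⟩ := (Transfer.isComplement'_pResidual hcomp T).2 ⟨y, hy⟩
  exact ⟨u, hRO ⟨u, hu, rfl⟩, t, hTZ t ht, (congrArg Subtype.val he).symm⟩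

variable {G : Type*} [Group G] [Finite G]

/-- An element normalizing `C` normalizes its core. -/
theorem conj_mem_oddOf {C : Subgroup G} {g y : G} (hg : g ∈ normalizer (C : Set G))
    (hy : y ∈ oddOf C) : g * y * g⁻¹ ∈ oddOf C := by
  refine le_oddOf (U := (oddOf C).map (MulAut.conj g).toMonoidHom) ?_ ?_ ?_ ⟨y, hy, rfl⟩
  · rintro _ ⟨x, hx, rfl⟩
    exact (mem_normalizer_iff.mp hg x).mp (oddOf_le C hx)
  · rw [card_map_of_injective (MulAut.conj g).injective]
    exact oddOf_odd C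
  · intro c hc
    refine mem_normalizer_of_maps ?_
    rintro _ ⟨x, hx, rfl⟩
    have hc' : g⁻¹ * c * g ∈ C := (mem_normalizer_iff''.mp hg c).mp hc
    refine ⟨_, (mem_normalizer_iff.mp (le_normalizer_oddOf C hc') x).mp hx, ?_⟩
    simp only [MulEquiv.coe_toMonoidHom, MulAut.conj_apply]
    group

end Cfsg.Agent.M24Type41
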