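import Cfsg.Agent.M24Type41.Bridge
import Mathlib.GroupTheory.GroupAction.Quotient

/-!
# The normalizer on the cosets of a centralized subgroup
-/

set_option autoImplicit false

namespace Cfsg.Agent.M24Type41

open Subgroup StrClosed41
open scoped Pointwise

variable {G : Type*} [Group G] [Finite G] {S : Sylow 2 G} {A : Subgroup G}
  (hc : Coord (S : Subgroup G) A)

namespace Coord

include hc

/-- Either a nontrivial coset of `B` in `A` is fixed, or `A/B` has order at least 8 and the
nontrivial cosets do not form a single orbit. -/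
theorem fixed_or_small
    (hfix : ∀ σ ∈ hc.ψ.range, σ ≠ 1 → Odd (orderOf σ) → Nat.card {k : V // σ k = k} ≤ 4)
    (hdvd : Nat.card hc.ψ.range ∣ 168) {B : Subgroup G} (hBA : B ≤ A) (hBne : B ≠ A) :
    (∃ a ∈ A, a ∉ B ∧ ∀ n ∈ centralizer (B : Set G) ⊓ normalizer (A : Set G),
      n * a * n⁻¹ * a ∈ B) ∨
    (Nat.card B ≤ 4 ∧ ∀ b ∈ A, b ∉ B → ∃ a ∈ A, a ∉ B ∧
      ∀ n ∈ centralizer (B : Set G) ⊓ normalizer (A : Set G), n * b * n⁻¹ * a ∉ B) := by
  classical
  haveI : Fact (Nat.Prime 2) := ⟨Nat.prime_two⟩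
  set H : Subgroup G := centralizer (B : Set G) ⊓ normalizer (A : Set G) with hH
  set H' : Subgroup (Equiv.Perm V) := (H.subgroupOf (normalizer (A : Set G))).map hc.ψ with hH'
  have hH'X : H' ≤ hc.ψ.range := by
    rintro _ ⟨n, -, rfl⟩
    exact ⟨n, rfl⟩
  set Bv : Finset V := Finset.univ.filter fun k => hc.α k ∈ B with hBv
  have hBvmem : ∀ {k : V}, k ∈ Bv ↔ hc.α k ∈ B := fun {k} => by simp [hBv]
  have hBvcard : Bv.card = Nat.card B := by
    rw [← Nat.card_eq_finsetCard]
    refine Nat.card_eq_of_bijective (fun k : Bv => (⟨hc.α k.1, hBvmem.mp k.2⟩ : B))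
      ⟨fun i j h => Subtype.ext (hc.α_injective (congrArg Subtype.val h)), fun x => ?_⟩
    obtain ⟨k, hk⟩ := (hc.mem_A x.1).mp (hBA x.2)
    exact ⟨⟨k, hBvmem.mpr (hk ▸ x.2)⟩, Subtype.ext hk⟩
  have hB0 : (0 : V) ∈ Bv := hBvmem.mpr (hc.α_zero ▸ one_mem _)
  have hfixB : ∀ σ ∈ H', ∀ k ∈ Bv, σ k = k := by
    rintro _ ⟨n, hn, rfl⟩ k hk
    refine hc.α_injective ?_
    rw [hc.α_ψ]
    have h := mem_centralizer_iff.mp (Subgroup.mem_inf.mp (mem_subgroupOf.mp hn)).1 _ (hBvmem.mp hk)
    rw [← h, mul_inv_cancel_right]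
  obtain ⟨a0, ha0A, ha0B⟩ : ∃ a ∈ A, a ∉ B :=
    SetLike.not_le_iff_exists.mp fun h => hBne (le_antisymm hBA h)
  by_cases h4 : Nat.card B ≤ 4
  · refine Or.inr ⟨h4, fun b hb hbB => ?_⟩
    by_contra hno
    push Not at hno
    obtain ⟨kb, rfl⟩ := (hc.mem_A b).mp hb
    let cs : V → Set V := fun k => {l | hc.α k * hc.α l ∈ B}
    have hcs : ∀ σ ∈ H', ∀ k, σ '' cs k = cs (σ k) := by
      rintro _ ⟨n, hn, rfl⟩ k
      obtain ⟨hnC, -⟩ := Subgroup.mem_inf.mp (mem_subgroupOf.mp hn)
      have hconj : ∀ l, hc.α (hc.ψ n k) * hc.α (hc.ψ n l) ∈ B ↔ hc.α k * hc.α l ∈ B := by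
        intro l
        rw [hc.α_ψ, hc.α_ψ, show (n : G) * hc.α k * (n : G)⁻¹ * ((n : G) * hc.α l * (n : G)⁻¹) =
          (n : G) * (hc.α k * hc.α l) * (n : G)⁻¹ by group]
        constructor
        · intro h
          have h1 := mem_centralizer_iff.mp hnC _ h
          have h2 : (n : G) * (hc.α k * hc.α l) * (n : G)⁻¹ = hc.α k * hc.α l := by
            refine mul_left_cancel (a := (n : G)) ?_
            rw [← h1]; group
          rwa [h2] at h
        · intro h
          rwa [← mem_centralizer_iff.mp hnC _ h, mul_inv_cancel_right]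
      ext l
      constructor
      · rintro ⟨m, hm, rfl⟩
        exact (hconj m).mpr hm
      · intro hl
        refine ⟨(hc.ψ n)⁻¹ l, ?_, Equiv.apply_symm_apply _ _⟩
        refine (hconj _).mp ?_
        show hc.α (hc.ψ n k) * hc.α (hc.ψ n ((hc.ψ n).symm l)) ∈ B
        rw [Equiv.apply_symm_apply]
        exact hl
    have hsame : ∀ k l, hc.α k * hc.α l ∈ B → cs k = cs l := by
      intro k l h
      ext m
      show hc.α k * hc.α m ∈ B ↔ hc.α l * hc.α m ∈ B
      have he : hc.α k * hc.α m = hc.α k * hc.α l * (hc.α l * hc.α m) := by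
        rw [mul_assoc, ← mul_assoc (hc.α l), hc.mul_self (hc.α_mem l), one_mul]
      rw [he]
      exact mul_mem_cancel_left h
    set s : Finset V := Finset.univ.filter fun k => hc.α k ∉ B with hs
    have horb : MulAction.orbit H' (cs kb) = ↑(s.image cs) := by
      ext c
      simp only [Finset.coe_image, Set.mem_image, Finset.mem_coe]
      constructor
      · rintro ⟨⟨σ, hσ⟩, rfl⟩
        refine ⟨σ kb, ?_, (hcs σ hσ kb).symm.trans rfl⟩
        simp only [hs, Finset.mem_filter, Finset.mem_univ, true_and]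
        intro h
        have h1 := hfixB _ (inv_mem hσ) _ (hBvmem.mpr h)
        rw [Equiv.Perm.inv_def, Equiv.symm_apply_apply] at h1
        exact hbB (h1 ▸ h)
      · rintro ⟨l, hl, rfl⟩
        simp only [hs, Finset.mem_filter, Finset.mem_univ, true_and] at hl
        obtain ⟨n, hn, hnb⟩ := hno (hc.α l) (hc.α_mem l) hl
        refine ⟨⟨hc.ψ ⟨n, (Subgroup.mem_inf.mp hn).2⟩, _, mem_subgroupOf.mpr hn, rfl⟩, ?_⟩
        refine (hcs _ ⟨_, mem_subgroupOf.mpr hn, rfl⟩ kb).trans (hsame _ _ ?_)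
        rw [hc.α_ψ]
        exact hnb
    have hcount : s.card = (s.image cs).card * Nat.card B := by
      rw [Finset.card_eq_sum_card_image cs s]
      refine Finset.sum_const_nat ?_
      intro c hc'
      obtain ⟨l0, hl0, rfl⟩ := Finset.mem_image.mp hc'
      simp only [hs, Finset.mem_filter, Finset.mem_univ, true_and] at hl0
      rw [← hBvcard, ← Finset.card_image_of_injective Bv (f := fun v => l0 ^^^ v) (fun u v h => by
        have h' := congrArg (fun w => l0 ^^^ w) h
        rwa [← xor_assoc', ← xor_assoc', (xor_self l0).1, (xor_self u).2.2,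
          (xor_self v).2.2] at h')]
      congr 1
      ext m
      simp only [hs, Finset.mem_filter, Finset.mem_univ, true_and, Finset.mem_image, hBv]
      constructor
      · rintro ⟨-, hm⟩
        refine ⟨l0 ^^^ m, ?_, by rw [← xor_assoc', (xor_self l0).1, (xor_self m).2.2]⟩
        rw [← hc.mul_α]
        have h1 : l0 ∈ cs l0 := by
          show hc.α l0 * hc.α l0 ∈ B
          rw [hc.mul_self (hc.α_mem _)]
          exact one_mem _
        rw [← hm] at h1
        have h2 : hc.α m * hc.α l0 ∈ B := h1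
        rwa [hc.comm (hc.α_mem m) (hc.α_mem l0)] at h2
      · rintro ⟨v, hv, rfl⟩
        refine ⟨?_, hsame _ _ ?_⟩
        · rw [← hc.mul_α, mul_mem_cancel_right hv]
          exact hl0
        · rw [← hc.mul_α, hc.comm (hc.α_mem l0) (hc.α_mem v), mul_assoc,
            hc.mul_self (hc.α_mem l0), mul_one]
          exact hv
    have hdvd' : (s.image cs).card ∣ 168 := by
      rw [← Set.ncard_coe_finset, ← horb, ← MulAction.index_stabilizer]
      exact (index_dvd_card _).trans ((card_dvd_of_le hH'X).trans hdvd)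
    have hs64 : s.card + Bv.card = 64 := by
      have h := Finset.card_filter_add_card_filter_not (s := (Finset.univ : Finset V))
        (p := fun k => hc.α k ∈ B)
      rw [Finset.card_univ, Fintype.card_fin] at h
      rw [hs, hBv]
      omega
    have hBdvd : Nat.card B ∣ 64 := hc.card_A ▸ card_dvd_of_le hBA
    rw [hBvcard] at hs64
    have hpos : 0 < Nat.card B := Nat.card_pos
    generalize Nat.card B = q at *
    generalize (s.image cs).card = m at *
    generalize s.card = r at *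
    subst hcount
    interval_cases q
    · obtain rfl : m = 63 := by omega
      norm_num at hdvd'
    · obtain rfl : m = 31 := by omega
      norm_num at hdvd'
    · norm_num at hBdvd
    · obtain rfl : m = 15 := by omega
      norm_num at hdvd'
  · left
    have h8 : 8 ≤ Bv.card := by
      have hBdvd : Nat.card B ∣ 2 ^ 6 := by
        have h := card_dvd_of_le hBA
        rwa [hc.card_A, show (64 : ℕ) = 2 ^ 6 by norm_num] at h
      obtain ⟨j, -, hj⟩ := (Nat.dvd_prime_pow Nat.prime_two).mp hBdvd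
      rw [hBvcard]
      have : 3 ≤ j := by
        by_contra hj3
        have := Nat.pow_le_pow_right (show 0 < 2 by norm_num) (show j ≤ 2 by omega)
        omega
      rw [hj]
      calc 8 = 2 ^ 3 := by norm_num
        _ ≤ 2 ^ j := Nat.pow_le_pow_right (by norm_num) this
    have hH2 : IsPGroup 2 H' := by
      rintro ⟨σ, hσ⟩
      obtain ⟨a, b, -, hb, hab, ha2, hbo⟩ := exists_two_odd σ
      have hb1 : b = 1 := by
        by_contra hne
        have h := hfix b (hH'X (zpowers_le.mpr hσ hb)) hne hbo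
        refine absurd (le_trans h8 ?_) (not_le.mpr (lt_of_le_of_lt h (by norm_num : 4 < 8)))
        rw [← Nat.card_eq_finsetCard]
        exact Nat.card_le_card_of_injective
          (fun k : Bv => (⟨k.1, hfixB b (zpowers_le.mpr hσ hb) _ k.2⟩ : {k : V // b k = k}))
          fun i j h => Subtype.ext (congrArg (fun v : {k : V // b k = k} => v.1) h)
      rw [hb1, mul_one] at hab
      subst hab
      obtain ⟨j, hj⟩ := ha2 ⟨σ, mem_zpowers σ⟩
      exact ⟨j, Subtype.ext (by
        have := congrArg Subtype.val hj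
        simpa using this)⟩
    obtain ⟨hlin, P, hP⟩ := hc.xhyp
    obtain ⟨T, hT⟩ := (hH2.comap_subtype : IsPGroup 2 (H'.subgroupOf hc.ψ.range)).exists_le_sylow
    obtain ⟨g, hg⟩ := MulAction.exists_smul_eq hc.ψ.range T P
    have hgd : ∀ σ ∈ H', ∃ d, (g : Equiv.Perm V) * σ * (g : Equiv.Perm V)⁻¹ = actHom d := by
      intro σ hσ
      have h1 : g * ⟨σ, hH'X hσ⟩ * g⁻¹ ∈ (P : Subgroup hc.ψ.range) := by
        rw [← hg]; exact ⟨_, hT (mem_subgroupOf.mpr hσ), rfl⟩
      obtain ⟨d, hd⟩ : (g : Equiv.Perm V) * σ * (g : Equiv.Perm V)⁻¹ ∈ actHom.range := by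
        rw [← hP]; exact ⟨_, h1, rfl⟩
      exact ⟨d, hd.symm⟩
    set sF : Finset V := Finset.univ.filter fun k => k ∉ Bv with hsF
    obtain ⟨k0, hk0⟩ := (hc.mem_A a0).mp ha0A
    have hne : sF.Nonempty := ⟨k0, by
      simp only [hsF, Finset.mem_filter, Finset.mem_univ, true_and, hBvmem, hk0]
      exact ha0B⟩
    obtain ⟨k, hk, hmin⟩ := sF.exists_min_image (fun v => lvl ((g : Equiv.Perm V) v)) hne
    simp only [hsF, Finset.mem_filter, Finset.mem_univ, true_and] at hk hmin
    refine ⟨hc.α k, hc.α_mem k, fun h => hk (hBvmem.mpr h), fun n hn => ?_⟩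
    set σ := hc.ψ ⟨n, (Subgroup.mem_inf.mp hn).2⟩ with hσd
    have hσ : σ ∈ H' := ⟨_, mem_subgroupOf.mpr hn, rfl⟩
    rw [show n * hc.α k * n⁻¹ = hc.α (σ k) from (hc.α_ψ ⟨n, _⟩ k).symm, hc.mul_α, ← hBvmem]
    by_contra hw
    obtain ⟨d, hd⟩ := hgd σ hσ
    have hg0 : (g : Equiv.Perm V) 0 = 0 := by
      have h := hlin _ g.2 0 0
      rwa [(xor_self _).1, (xor_self _).1] at h
    have hgk : (g : Equiv.Perm V) k ≠ 0 := fun h =>
      hk (((g : Equiv.Perm V).injective (h.trans hg0.symm)) ▸ hB0)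
    have h1 := hmin _ hw
    rw [hlin _ g.2] at h1
    have h2 : (g : Equiv.Perm V) (σ k) = act d ((g : Equiv.Perm V) k) := by
      rw [← actHom_apply, ← hd, Equiv.Perm.mul_apply, Equiv.Perm.mul_apply, Equiv.Perm.inv_def,
        Equiv.symm_apply_apply]
    rw [h2] at h1
    exact absurd (lvl_lt d _ hgk) (not_lt.mpr h1)

end Coord

end Cfsg.Agent.M24Type41
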