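import Cfsg.Agent.M24Type41.Orbit
import Cfsg.Agent.M24Type41.Lift
import Cfsg.Agent.S0215

/-!
# Every centralizer of a subgroup of `A` is the product of its core and the normalizer of `A`
-/

set_option autoImplicit false

namespace Cfsg.Agent.M24Type41

open Subgroup StrClosed41

variable {G : Type*} [Group G] [Finite G] {S : Sylow 2 G} {A : Subgroup G}
  (hc : Coord (S : Subgroup G) A)

namespace Coord

variable (B : Subgroup G) (hBA : B ≤ A) {a : G} (ha : a ∈ A)

include hc hBA

theorem A_le_centralizer : A ≤ centralizer (B : Set G) := fun _ hx =>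
  mem_centralizer_iff.mpr fun _ hb => hc.comm (hBA hb) hx

include ha

omit [Finite G] in
/-- An element fixing the coset of `a` normalizes `C(B, a)`. -/
theorem coset_normalizer [Finite G] {p : G} (hp : p ∈ centralizer (B : Set G))
    (hpa : p * a * p⁻¹ * a ∈ B) :
    p ∈ normalizer ((centralizer (B : Set G) ⊓ centralizer {a} : Subgroup G) : Set G) := by
  refine mem_normalizer_of_maps fun x hx => ?_
  obtain ⟨hxB, hxa⟩ := Subgroup.mem_inf.mp hx
  have hc' : p * x * p⁻¹ ∈ centralizer (B : Set G) := mul_mem (mul_mem hp hxB) (inv_mem hp)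
  refine Subgroup.mem_inf.mpr ⟨hc', mem_centralizer_singleton_iff.mpr ?_⟩
  set b := p * a * p⁻¹ * a with hb
  have h1 : p * x * p⁻¹ * b = b * (p * x * p⁻¹) := (mem_centralizer_iff.mp hc' b hpa).symm
  have haa := hc.mul_self ha
  have h2 : p * x * p⁻¹ * (p * a * p⁻¹) = p * a * p⁻¹ * (p * x * p⁻¹) := by
    calc p * x * p⁻¹ * (p * a * p⁻¹) = p * (x * a) * p⁻¹ := by group
      _ = p * (a * x) * p⁻¹ := by rw [mem_centralizer_singleton_iff.mp hxa]
      _ = p * a * p⁻¹ * (p * x * p⁻¹) := by group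
  calc p * x * p⁻¹ * a = p * x * p⁻¹ * ((p * a * p⁻¹)⁻¹ * b) := by rw [hb]; group
    _ = (p * a * p⁻¹)⁻¹ * (p * x * p⁻¹ * b) := by
        rw [← mul_assoc, (Commute.inv_right h2).eq, mul_assoc]
    _ = (p * a * p⁻¹)⁻¹ * b * (p * x * p⁻¹) := by rw [h1, ← mul_assoc]
    _ = a * (p * x * p⁻¹) := by rw [hb]; group

/-- An element fixing the coset of `a` is the product of a core element of `C(B, a)` and of an
element of the normalizer. -/
theorem coset_decompose (hA : Cfsg.IsStronglyClosed A (S : Subgroup G))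
    (hgood : Good A (centralizer (B : Set G) ⊓ centralizer {a})) {p : G}
    (hp : p ∈ centralizer (B : Set G)) (hpa : p * a * p⁻¹ * a ∈ B) :
    ∃ o ∈ oddOf (centralizer (B : Set G) ⊓ centralizer {a}), ∃ n ∈ normalizer (A : Set G),
      p = o * n := by
  have hACa : A ≤ centralizer (B : Set G) ⊓ centralizer {a} := le_inf (hc.A_le_centralizer B hBA)
    fun x hx => mem_centralizer_singleton_iff.mpr (hc.comm hx ha)
  have hpn := hc.coset_normalizer B hBA ha hp hpa
  obtain ⟨c, hcC, hcn⟩ := exists_mem_normalizer_of_le hA hACa (g := p)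
    fun y hy => (mem_normalizer_iff.mp hpn y).mp (hACa hy)
  obtain ⟨o, ho, n, hn, he⟩ := hgood _ (inv_mem hcC)
  refine ⟨o, ho, n * (c * p), mul_mem hn hcn, ?_⟩
  rw [← mul_assoc, ← he]
  group

/-- The case of an isolated coset. -/
theorem good_of_fixed (hA : Cfsg.IsStronglyClosed A (S : Subgroup G)) (haB : a ∉ B)
    (hgood : Good A (centralizer (B : Set G) ⊓ centralizer {a}))
    (hfixed : ∀ n ∈ centralizer (B : Set G) ⊓ normalizer (A : Set G), n * a * n⁻¹ * a ∈ B) :
    Good A (centralizer (B : Set G)) := by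
  haveI : Fact (Nat.Prime 2) := ⟨Nat.prime_two⟩
  set C := centralizer (B : Set G) with hC
  have hAC : A ≤ C := hc.A_le_centralizer B hBA
  set Bs := B.subgroupOf C with hBs
  have hBc : Bs ≤ center C := fun b hb => mem_center_iff.mpr fun g => Subtype.ext
    (mem_centralizer_iff.mp g.2 (b : G) hb).symm
  haveI hBn : Bs.Normal := ⟨fun b hb g => by
    rw [mem_center_iff.mp (hBc hb) g, mul_inv_cancel_right]; exact hb⟩
  set π := QuotientGroup.mk' Bs with hπ
  obtain ⟨T, hT⟩ :=
    ((S.isPGroup'.to_le hc.A_le).comap_subtype : IsPGroup 2 (A.subgroupOf C)).exists_le_sylow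
  set a' : C := ⟨a, hAC ha⟩ with ha'
  have hau : orderOf (π a') = 2 := by
    refine orderOf_eq_prime ?_ fun h => haB ((QuotientGroup.eq_one_iff a').mp h)
    rw [← map_pow, pow_two, show a' * a' = 1 from Subtype.ext (hc.mul_self ha), map_one]
  obtain ⟨W, hW⟩ := (T.isPGroup'.map C.subtype).exists_le_sylow
  obtain ⟨N, hNn, hNodd, hN⟩ := S0215.result (T.mapSurjective (QuotientGroup.mk'_surjective Bs))
    (π a') hau ⟨a', hT ha, rfl⟩ (by
      intro g hg
      obtain ⟨g, rfl⟩ := QuotientGroup.mk'_surjective Bs g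
      rw [← map_inv, ← map_mul, ← map_mul] at hg
      obtain ⟨s, hs, hse⟩ := hg
      have hs' : g * a' * g⁻¹ ∈ (T : Subgroup C) := by
        have h : s⁻¹ * (g * a' * g⁻¹) ∈ Bs := by
          rw [← QuotientGroup.eq_one_iff, ← QuotientGroup.mk'_apply, map_mul, map_inv, hse,
            inv_mul_cancel]
        have h' : (s⁻¹ * (g * a' * g⁻¹) : C) ∈ (T : Subgroup C) := hT (hBA h)
        simpa using mul_mem hs h'
      have hmem : (g : G) * a * (g : G)⁻¹ ∈ A := mem_of_conj hA W
        (fun x hx => hW ⟨⟨x, hAC hx⟩, hT hx, rfl⟩) ha (hW ⟨_, hs', rfl⟩)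
      obtain ⟨n, hn, hne⟩ := exists_normalizer_conj hA hc.elementary.1 hAC ha g.2 hmem
      have h1 := hfixed n hn
      rw [hne] at h1
      have h2 : π (g * a' * g⁻¹ * a') = 1 := (QuotientGroup.eq_one_iff _).mpr h1
      rw [map_mul, mul_eq_one_iff_eq_inv] at h2
      rw [← map_inv, ← map_mul, ← map_mul, h2, ← map_inv]
      exact congrArg π (inv_eq_of_mul_eq_one_right (Subtype.ext (hc.mul_self ha))))
  haveI := hNn
  set O := oddOf C with hO
  set Oa := oddOf (C ⊓ centralizer {a}) with hOa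
  -- every element moves `a` into `a B` up to the core
  have hdec : ∀ g ∈ C, ∃ o ∈ O, ∃ p ∈ C, p * a * p⁻¹ * a ∈ B ∧ g = o * p := by
    intro g hg
    obtain ⟨o, ho, b, hb, he⟩ := exists_core_mul_of_quotient Bs hBc N hNodd
      (y := ⟨g, hg⟩ * a' * ⟨g, hg⟩⁻¹ * a') (by
        have h := inv_mem (hN (π ⟨g, hg⟩))
        have hi : (π a')⁻¹ = π a' :=
          inv_eq_of_mul_eq_one_right (by rw [← pow_two, ← hau, pow_orderOf_eq_one])
        rw [mul_inv_rev, mul_inv_rev, mul_inv_rev, inv_inv, inv_inv, hi] at h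
        rw [map_mul, map_mul, map_mul, map_inv, mul_assoc, mul_assoc]
        exact h)
    have he' : g * a * g⁻¹ * a = (o : G) * b := congrArg Subtype.val he
    set v := (b : G) * a with hv
    have hvA : v ∈ A := mul_mem (hBA hb) ha
    have hw : g * a * g⁻¹ = (o : G) * v := by
      calc g * a * g⁻¹ = g * a * g⁻¹ * (a * a) := by rw [hc.mul_self ha, mul_one]
        _ = g * a * g⁻¹ * a * a := by group
        _ = (o : G) * v := by rw [he', hv, mul_assoc]
    have hv1 : v ≠ 1 := fun h => haB (by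
      have := eq_inv_of_mul_eq_one_right (hv ▸ h)
      rw [this]
      exact inv_mem hb)
    have hg1 : g * a * g⁻¹ ≠ 1 := fun h => haB (conj_eq_one_iff.mp h ▸ one_mem B)
    obtain ⟨k, hk, hkv⟩ := exists_conj_of_mul_mem (oddOf_odd C) (i := g * a * g⁻¹) (j := v)
      (orderOf_eq_prime (by rw [conj_pow, pow_two, hc.mul_self ha, mul_one, mul_inv_cancel]) hg1)
      (orderOf_eq_prime (by rw [pow_two, hc.mul_self hvA]) hv1)
      (by rw [hw, mul_assoc, hc.mul_self hvA, mul_one]; exact ⟨o, ho, rfl⟩)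
    refine ⟨k⁻¹, inv_mem hk, k * g, mul_mem (oddOf_le C hk) hg, ?_, by group⟩
    rw [show k * g * a * (k * g)⁻¹ = k * (g * a * g⁻¹) * k⁻¹ by group, hkv, hv, mul_assoc,
      hc.mul_self ha, mul_one]
    exact hb
  -- the core of `C(B, a)` is in the core of `C`
  have hCaC : C ⊓ centralizer {a} ≤ C := inf_le_left
  have hnO : C ≤ normalizer (O : Set G) := le_normalizer_oddOf C
  have hOaO : Oa ≤ O := by
    refine le_trans le_sup_right (le_oddOf (U := O ⊔ Oa) (sup_le (oddOf_le C)
      ((oddOf_le _).trans hCaC))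
      (odd_card_sup (oddOf_odd C) (oddOf_odd _) (((oddOf_le _).trans hCaC).trans hnO)) ?_)
    intro g hg
    obtain ⟨o, ho, p, hp, hpa, rfl⟩ := hdec g hg
    refine mul_mem (le_normalizer (mem_sup_left ho)) (mem_normalizer_of_maps fun y hy => ?_)
    suffices O ⊔ Oa ≤ (O ⊔ Oa).comap (MulAut.conj p).toMonoidHom from this hy
    exact sup_le (fun x hx => mem_sup_left ((mem_normalizer_iff.mp (hnO hp) x).mp hx))
      fun x hx => mem_sup_right (conj_mem_oddOf (hc.coset_normalizer B hBA ha hp hpa) hx)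
  intro g hg
  obtain ⟨o, ho, p, hp, hpa, rfl⟩ := hdec g hg
  obtain ⟨o', ho', n, hn, rfl⟩ := hc.coset_decompose B hBA ha hA hgood hp hpa
  exact ⟨o * o', mul_mem ho (hOaO ho'), n, hn, (mul_assoc o o' n).symm⟩

omit ha

/-- The case without isolated cosets. -/
theorem good_of_small (hA : Cfsg.IsStronglyClosed A (S : Subgroup G)) (hB4 : Nat.card B ≤ 4)
    (hgood : ∀ a ∈ A, a ∉ B → Good A (centralizer (B : Set G) ⊓ centralizer {a}))
    (hmany : ∀ b ∈ A, b ∉ B → ∃ a ∈ A, a ∉ B ∧
      ∀ n ∈ centralizer (B : Set G) ⊓ normalizer (A : Set G), n * b * n⁻¹ * a ∉ B) :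
    Good A (centralizer (B : Set G)) := by
  haveI : Fact (Nat.Prime 2) := ⟨Nat.prime_two⟩
  set C := centralizer (B : Set G) with hC
  have hAC : A ≤ C := hc.A_le_centralizer B hBA
  set Bs := B.subgroupOf C with hBs
  have hBc : Bs ≤ center C := fun b hb => mem_center_iff.mpr fun g => Subtype.ext
    (mem_centralizer_iff.mp g.2 (b : G) hb).symm
  haveI hBn : Bs.Normal := ⟨fun b hb g => by
    rw [mem_center_iff.mp (hBc hb) g, mul_inv_cancel_right]; exact hb⟩
  set π := QuotientGroup.mk' Bs with hπ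
  set As := A.subgroupOf C with hAs
  have hBsAs : Bs ≤ As := fun b hb => hBA hb
  set Ab := As.map π with hAb
  obtain ⟨T, hT⟩ :=
    ((S.isPGroup'.to_le hc.A_le).comap_subtype : IsPGroup 2 As).exists_le_sylow
  obtain ⟨W, hW⟩ := (T.isPGroup'.map C.subtype).exists_le_sylow
  have hlift : ∀ {x y : C}, x ∈ As → π x = π y → y ∈ As := by
    intro x y hx hxy
    have h : x⁻¹ * y ∈ Bs := by
      rw [← QuotientGroup.eq_one_iff, ← QuotientGroup.mk'_apply, map_mul, map_inv, hxy,
        inv_mul_cancel]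
    simpa using mul_mem hx (hBsAs h)
  have hinv : ∀ {x : C}, x ∈ As → (π x)⁻¹ = π x := fun {x} hx => by
    rw [← map_inv, show x⁻¹ = x from
      inv_eq_of_mul_eq_one_right (Subtype.ext (hc.mul_self hx))]
  have hAbe : Cfsg.IsElementaryAbelian 2 Ab := by
    refine ⟨⟨⟨?_⟩⟩, ?_⟩
    · rintro ⟨_, x, hx, rfl⟩ ⟨_, y, hy, rfl⟩
      refine Subtype.ext ?_
      show π x * π y = π y * π x
      rw [← map_mul, ← map_mul, show x * y = y * x from Subtype.ext (hc.comm hx hy)]
    · rintro _ ⟨x, hx, rfl⟩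
      rw [← map_pow, pow_two, show x * x = 1 from Subtype.ext (hc.mul_self hx), map_one]
  have hclosed : Cfsg.IsStronglyClosed Ab
      ((T.mapSurjective (QuotientGroup.mk'_surjective Bs) : Sylow 2 _) : Subgroup (C ⧸ Bs)) := by
    refine ⟨map_mono hT, ?_⟩
    rintro _ ⟨x, hx, rfl⟩ g hg
    obtain ⟨g, rfl⟩ := QuotientGroup.mk'_surjective Bs g
    rw [← map_inv, ← map_mul, ← map_mul] at hg ⊢
    obtain ⟨s, hs, hse⟩ := hg
    have h : s⁻¹ * (g * x * g⁻¹) ∈ Bs := by
      rw [← QuotientGroup.eq_one_iff, ← QuotientGroup.mk'_apply, map_mul, map_inv, hse,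
        inv_mul_cancel]
    have h' : g * x * g⁻¹ ∈ (T : Subgroup C) := by simpa using mul_mem hs (hT (hBsAs h))
    refine ⟨_, ?_, rfl⟩
    exact mem_of_conj hA W (fun y hy => hW ⟨⟨y, hAC hy⟩, hT hy, rfl⟩) hx (hW ⟨_, h', rfl⟩)
  have hA8 : 8 ≤ Nat.card Ab := by
    have h := (π.comp As.subtype).ker.card_mul_index
    rw [index_ker, MonoidHom.range_comp, Subgroup.range_subtype,
      Nat.card_congr (subgroupOfEquivOfLe hAC).toEquiv, hc.card_A, ← hAb] at h
    have hk : Nat.card (π.comp As.subtype).ker ≤ 4 := by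
      refine le_trans (Nat.card_le_card_of_injective
        (fun x => (⟨(((x : As) : C) : G),
          (QuotientGroup.eq_one_iff (N := Bs) ((x : As) : C)).mp (MonoidHom.mem_ker.mp x.2)⟩ : B))
        ?_) hB4
      intro x y hxy
      exact Subtype.ext (Subtype.ext (Subtype.ext (congrArg Subtype.val hxy :)))
    by_contra hlt
    have := Nat.mul_le_mul hk (Nat.le_of_lt_succ (not_le.mp hlt))
    omega
  -- centralizer of the image of `A`
  have hcomp : Cfsg.HasNormalPComplement 2 ↥(centralizer (Ab : Set (C ⧸ Bs))) := by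
    set Y := centralizer (Ab : Set (C ⧸ Bs)) with hY
    have hZ := hc.centralizer_complement
    have hZC : centralizer (A : Set G) ≤ C := centralizer_le hBA
    refine Transfer.hasNormalPComplement_iff_not_dvd.mpr fun hd => ?_
    have hle : (Cfsg.pResidual 2 ↥Y).map Y.subtype ≤
        ((oddPart (centralizer (A : Set G))).subgroupOf C).map π := by
      rw [Cfsg.pResidual, MonoidHom.map_closure, closure_le]
      rintro _ ⟨y, hy, rfl⟩
      obtain ⟨x, hxy⟩ := QuotientGroup.mk'_surjective Bs (y : C ⧸ Bs)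
      obtain ⟨u, w, hu, hw, hxe, hu2, hwo⟩ := exists_two_odd x
      have ho : Odd (orderOf (y : C ⧸ Bs)) := by
        rw [orderOf_coe]; exact Nat.coprime_two_right.mp hy
      have hu1 : π u = 1 := by
        refine eq_one_of_mem_two_odd (hu2.map π) (?_ : Odd (Nat.card (zpowers (y : C ⧸ Bs))))
          (mem_map_of_mem π (mem_zpowers u)) ?_
        · rw [Nat.card_zpowers]; exact ho
        · obtain ⟨k, rfl⟩ := hu
          refine ⟨k, ?_⟩
          show (y : C ⧸ Bs) ^ k = π (x ^ k)
          rw [map_zpow, ← hxy]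
      have hyw : (y : C ⧸ Bs) = π w := by rw [← hxy, hxe, map_mul, hu1, one_mul]
      refine ⟨w, mem_subgroupOf.mpr ((mem_oddPart hZ).mpr ⟨?_, by rwa [orderOf_coe]⟩), hyw.symm⟩
      refine mem_centralizer_iff.mpr fun v hv => ?_
      set v' : C := ⟨v, hAC hv⟩
      have h1 : π (v'⁻¹ * (w * v' * w⁻¹)) = 1 := by
        have h2 := mem_centralizer_iff.mp y.2 (π v') ⟨v', hv, rfl⟩
        rw [hyw] at h2
        simp only [map_mul, map_inv]
        rw [← h2, mul_inv_cancel_right, inv_mul_cancel]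
      set bb : C := v'⁻¹ * (w * v' * w⁻¹) with hbb
      have hbB : bb ∈ Bs := (QuotientGroup.eq_one_iff _).mp h1
      have hbc : ∀ g : C, g * bb = bb * g := fun g => mem_center_iff.mp (hBc hbB) g
      have hwv : ∀ m : ℕ, w ^ m * v' * (w ^ m)⁻¹ = v' * bb ^ m := by
        intro m
        induction m with
        | zero => simp
        | succ m ih =>
          calc w ^ (m + 1) * v' * (w ^ (m + 1))⁻¹ = w * (w ^ m * v' * (w ^ m)⁻¹) * w⁻¹ := by
                rw [pow_succ']; group
            _ = w * v' * w⁻¹ * (w * bb ^ m * w⁻¹) := by rw [ih]; group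
            _ = v' * bb * bb ^ m := by
                rw [(Commute.pow_right (hbc w) m).eq, mul_inv_cancel_right, hbb]; group
            _ = v' * bb ^ (m + 1) := by rw [mul_assoc, ← pow_succ']
      have h3 := hwv (orderOf w)
      rw [pow_orderOf_eq_one, one_mul, inv_one, mul_one, left_eq_mul] at h3
      have h4 : bb ^ 2 = 1 := Subtype.ext (by
        simpa [pow_two] using hc.mul_self (hBA (show (bb : G) ∈ B from hbB)))
      have h5 : bb = 1 := by
        refine orderOf_eq_one_iff.mp (Nat.Coprime.eq_one_of_dvd ?_ (orderOf_dvd_of_pow_eq_one h3))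
        exact Nat.Coprime.coprime_dvd_left (orderOf_dvd_of_pow_eq_one h4)
          (Nat.coprime_two_left.mpr hwo)
      rw [h5, eq_comm] at hbb
      have h6 : w * v' * w⁻¹ = v' := (inv_mul_eq_one.mp hbb).symm
      exact (mul_inv_eq_iff_eq_mul.mp (congrArg Subtype.val h6)).symm
    have h2 := card_dvd_of_le hle
    rw [card_map_of_injective Y.subtype_injective] at h2
    refine Nat.not_even_iff_odd.mpr ?_ (even_iff_two_dvd.mpr (hd.trans h2))
    refine Odd.of_dvd_nat ?_ ((card_map_dvd _ _))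
    rw [Nat.card_congr (subgroupOfEquivOfLe ((oddPart_le _).trans hZC)).toEquiv]
    exact odd_oddPart hZ
  have hnc : ∀ b ∈ Ab, b ≠ 1 → ∃ x ∈ Ab, x ≠ 1 ∧ ¬ IsConj x b := by
    rintro _ ⟨b, hb, rfl⟩ hb1
    have hbB : (b : G) ∉ B := fun h => hb1 ((QuotientGroup.eq_one_iff (N := Bs) _).mpr h)
    obtain ⟨a, ha, haB, hn⟩ := hmany b hb hbB
    refine ⟨π ⟨a, hAC ha⟩, ⟨_, ha, rfl⟩, fun h => haB ((QuotientGroup.eq_one_iff (N := Bs) ⟨a, hAC ha⟩).mp h), ?_⟩
    intro hconj
    obtain ⟨g, hg⟩ := isConj_iff.mp (IsConj.symm hconj)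
    obtain ⟨g, rfl⟩ := QuotientGroup.mk'_surjective Bs g
    rw [← map_inv, ← map_mul, ← map_mul] at hg
    have hmem : g * b * g⁻¹ ∈ As := hlift (x := ⟨a, hAC ha⟩) ha hg.symm
    obtain ⟨n, hn', hne⟩ := exists_normalizer_conj hA hc.elementary.1 hAC hb g.2 hmem
    refine hn n hn' ?_
    rw [show n * (b : G) * n⁻¹ = (g : G) * b * (g : G)⁻¹ from hne]
    have h : π (g * b * g⁻¹ * ⟨a, hAC ha⟩) = 1 := by
      rw [map_mul, hg, mul_eq_one_iff_eq_inv]
      exact (hinv (x := ⟨a, hAC ha⟩) ha).symm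
    have h2 : g * b * g⁻¹ * (⟨a, hAC ha⟩ : C) ∈ Bs := (QuotientGroup.eq_one_iff _).mp h
    exact h2
  have hgoodK : ∀ x ∈ Ab, x ≠ 1 → Good Ab (centralizer ({x} : Set (C ⧸ Bs))) := by
    rintro _ ⟨a, ha, rfl⟩ ha1
    have haB : (a : G) ∉ B := fun h => ha1 ((QuotientGroup.eq_one_iff (N := Bs) _).mpr h)
    set Ca := C ⊓ centralizer {(a : G)} with hCa
    have hpre : ∀ g : C, π g ∈ centralizer ({π a} : Set (C ⧸ Bs)) →
        (g : G) * a * (g : G)⁻¹ * a ∈ B := by
      intro g hg
      have h := mem_centralizer_singleton_iff.mp hg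
      refine (QuotientGroup.eq_one_iff (N := Bs) (g * a * g⁻¹ * a)).mp ?_
      show π _ = 1
      rw [map_mul, map_mul, map_mul, map_inv, h, mul_inv_cancel_right, ← map_mul,
        show a * a = 1 from Subtype.ext (hc.mul_self ha), map_one]
    have hcore : ((oddOf Ca).subgroupOf C).map π ≤ oddOf (centralizer ({π a} : Set (C ⧸ Bs))) := by
      refine le_oddOf ?_ ?_ ?_
      · rintro _ ⟨u, hu, rfl⟩
        refine mem_centralizer_singleton_iff.mpr ?_
        rw [← map_mul, ← map_mul]
        exact congrArg π (Subtype.ext (mem_centralizer_singleton_iff.mp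
          (Subgroup.mem_inf.mp (oddOf_le Ca hu)).2))
      · refine (oddOf_odd Ca).of_dvd_nat ((card_map_dvd _ _).trans ?_)
        rw [Nat.card_congr (subgroupOfEquivOfLe ((oddOf_le Ca).trans inf_le_left)).toEquiv]
      · intro k hk
        obtain ⟨g, rfl⟩ := QuotientGroup.mk'_surjective Bs k
        refine mem_normalizer_of_maps ?_
        rintro _ ⟨u, hu, rfl⟩
        exact ⟨g * u * g⁻¹,
          conj_mem_oddOf (hc.coset_normalizer B hBA ha g.2 (hpre g hk)) hu,
          by rw [map_mul, map_mul, map_inv]⟩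
    intro k hk
    obtain ⟨g, rfl⟩ := QuotientGroup.mk'_surjective Bs k
    obtain ⟨o, ho, n, hn, he⟩ :=
      hc.coset_decompose B hBA ha hA (hgood _ ha haB) g.2 (hpre g hk)
    have hoC : o ∈ C := (Subgroup.mem_inf.mp (oddOf_le Ca ho)).1
    have hnC : n ∈ C := by
      have := mul_mem (inv_mem hoC) g.2
      rwa [he, inv_mul_cancel_left] at this
    refine ⟨π ⟨o, hoC⟩, hcore ⟨_, ho, rfl⟩, π ⟨n, hnC⟩, ?_, ?_⟩
    · refine mem_normalizer_of_maps ?_
      rintro _ ⟨x, hx, rfl⟩
      exact ⟨⟨n, hnC⟩ * x * ⟨n, hnC⟩⁻¹, (mem_normalizer_iff.mp hn _).mp hx,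
        by rw [map_mul, map_mul, map_inv]⟩
    · rw [← map_mul]
      exact congrArg π (Subtype.ext he)
  have hK := normal_sup_pPrimeCore_of_good_of_complement hclosed hAbe hA8 hcomp hnc hgoodK
  refine Good.of_normal hA hAC (normal_sup_of_quotient Bs hBc ?_ As hBsAs hK)
  exact (S.isPGroup'.to_le (hBA.trans hc.A_le)).comap_subtype

omit hBA

/-- The induction. -/
theorem good_centralizer
    (hfix : ∀ σ ∈ hc.ψ.range, σ ≠ 1 → Odd (orderOf σ) → Nat.card {k : V // σ k = k} ≤ 4)
    (hdvd : Nat.card hc.ψ.range ∣ 168) (B : Subgroup G) (hBA : B ≤ A) :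
    Good A (centralizer (B : Set G)) := by
  haveI : Fact (Nat.Prime 2) := ⟨Nat.prime_two⟩
  have hA := hc.stronglyClosed
  suffices ∀ m, ∀ B : Subgroup G, B ≤ A → 64 - Nat.card B = m →
      Good A (centralizer (B : Set G)) from this _ B hBA rfl
  intro m
  induction m using Nat.strong_induction_on with
  | _ m ih =>
    intro B hBA hm
    by_cases hBeq : B = A
    · subst hBeq
      exact fun g hg => ⟨1, one_mem _, g, centralizer_le_normalizer _ hg, (one_mul g).symm⟩
    have hgood : ∀ a ∈ A, a ∉ B → Good A (centralizer (B : Set G) ⊓ centralizer {a}) := by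
      intro a ha haB
      have hle : B ⊔ zpowers a ≤ A := sup_le hBA (zpowers_le.mpr ha)
      have heq : centralizer ((B ⊔ zpowers a : Subgroup G) : Set G) =
          centralizer (B : Set G) ⊓ centralizer {a} := by
        refine le_antisymm (le_inf (centralizer_le (le_sup_left : B ≤ B ⊔ zpowers a))
          (centralizer_le (Set.singleton_subset_iff.mpr (mem_sup_right (mem_zpowers a))))) ?_
        intro g hg
        obtain ⟨hgB, hga⟩ := Subgroup.mem_inf.mp hg
        have h : B ⊔ zpowers a ≤ centralizer {g} := sup_le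
          (fun b hb => mem_centralizer_singleton_iff.mpr (mem_centralizer_iff.mp hgB b hb))
          (zpowers_le.mpr (mem_centralizer_singleton_iff.mpr
            (mem_centralizer_singleton_iff.mp hga).symm))
        exact mem_centralizer_iff.mpr fun y hy => mem_centralizer_singleton_iff.mp (h hy)
      rw [← heq]
      refine ih _ ?_ _ hle rfl
      have h64 := hc.card_A ▸ card_le_of_le hle
      have hlt : Nat.card B < Nat.card ↥(B ⊔ zpowers a) := by
        by_contra hnl
        exact haB ((eq_of_le_of_card_ge le_sup_left (not_lt.mp hnl)).ge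
          (mem_sup_right (mem_zpowers a)))
      omega
    rcases hc.fixed_or_small hfix hdvd hBA hBeq with ⟨a, ha, haB, hf⟩ | ⟨hB4, hmany⟩
    · exact hc.good_of_fixed B hBA ha hA haB (hgood a ha haB) hf
    · exact hc.good_of_small B hBA hA hB4 hgood hmany

/-- `A O(G)` is normal. -/
theorem normal_sup
    (hfix : ∀ σ ∈ hc.ψ.range, σ ≠ 1 → Odd (orderOf σ) → Nat.card {k : V // σ k = k} ≤ 4)
    (hdvd : Nat.card hc.ψ.range ∣ 168) : (A ⊔ Cfsg.pPrimeCore 2 G).Normal := by
  have h := hc.good_centralizer hfix hdvd ⊥ bot_le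
  set O := Cfsg.pPrimeCore 2 G with hO
  haveI hOn : O.Normal := Thompson.sSup_normal fun N hN => hN.1
  rw [← normalizer_eq_top_iff, eq_top_iff]
  intro g _
  have hg : g ∈ centralizer ((⊥ : Subgroup G) : Set G) :=
    mem_centralizer_iff.mpr fun x hx => by
      rw [(Subgroup.mem_bot.mp hx : x = 1), one_mul, mul_one]
  obtain ⟨o, ho, n, hn, rfl⟩ := h g hg
  have htop : centralizer ((⊥ : Subgroup G) : Set G) = ⊤ :=
    eq_top_iff.mpr fun x _ => mem_centralizer_iff.mpr fun y hy => by
      rw [(Subgroup.mem_bot.mp hy : y = 1), one_mul, mul_one]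
  rw [htop, oddOf_top] at ho
  refine mul_mem (le_normalizer (mem_sup_right ho)) (mem_normalizer_of_maps fun y hy => ?_)
  suffices A ⊔ O ≤ (A ⊔ O).comap (MulAut.conj n).toMonoidHom from this hy
  exact sup_le (fun x hx => mem_sup_left ((mem_normalizer_iff.mp hn x).mp hx))
    fun x hx => mem_sup_right (hOn.conj_mem x hx n)

end Coord

end Cfsg.Agent.M24Type41
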