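import Cfsg.Agent.M24Type41.XDefs
import Cfsg.Agent.S0215

/-!
# Involution centralisers in the linear groups on the group of order 64

Every element of odd order centralising an involution is trivial, and a subgroup containing the
Sylow 2-subgroup in which the central involution is isolated is the Sylow 2-subgroup.
-/

set_option autoImplicit false

namespace Cfsg.Agent.M24Type41

open Subgroup

theorem vxor_self : ∀ i : V, i ^^^ i = 0 ∧ i ^^^ 0 = i ∧ 0 ^^^ i = i := by decide +kernel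

theorem vxor_comm (i j : V) : i ^^^ j = j ^^^ i := Fin.ext (by simp [Fin.xor_val, Nat.xor_comm])

theorem vxor_val (i j : V) : (i ^^^ j).val = i.val ^^^ j.val := by
  have := Nat.xor_lt_two_pow (n := 6) i.2 j.2
  simp only [Fin.xor_val]
  exact Nat.mod_eq_of_lt this

theorem vxor_assoc (i j k : V) : (i ^^^ j) ^^^ k = i ^^^ (j ^^^ k) :=
  Fin.ext (by rw [vxor_val, vxor_val, vxor_val, vxor_val, Nat.xor_assoc])

theorem vxor_cancel (i j : V) : i ^^^ (i ^^^ j) = j := by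
  rw [← vxor_assoc, (vxor_self i).1, (vxor_self j).2.2]

theorem vxor_cancel' (i j : V) : (i ^^^ j) ^^^ j = i := by
  rw [vxor_assoc, (vxor_self j).1, (vxor_self i).2.1]

theorem vxor_eq_zero : ∀ i j : V, i ^^^ j = 0 ↔ i = j := by decide +kernel

theorem vxor_swap (i j k l : V) : (i ^^^ j) ^^^ (k ^^^ l) = (i ^^^ k) ^^^ (j ^^^ l) := by
  rw [vxor_assoc, vxor_assoc, ← vxor_assoc j k l, vxor_comm j k, vxor_assoc k j l]

theorem vxor_mid (i j k : V) : (i ^^^ j) ^^^ (j ^^^ k) = i ^^^ k := by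
  rw [vxor_assoc, vxor_cancel]

theorem step_cases (v : V) : step v = v ∨ ∃ d : D8, step v = act d v ^^^ v := by
  unfold step
  generalize hl : List.find? _ _ = o
  cases o with
  | none => exact Or.inl rfl
  | some w =>
    obtain ⟨d, -, hd⟩ := List.mem_map.mp (List.mem_of_find?_eq_some hl)
    exact Or.inr ⟨d, hd.symm⟩

theorem four_set : ∀ s u v : D8, Nc s → s * u = u * s → s * v = v * s → u ≠ 1 → u ≠ s →
    v = 1 ∨ v = u ∨ v = s ∨ v = u * s := by decide +kernel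

theorem c_pos : (∃ a : D8, Nc a ∧ InV a 4) ∧ ∃ a : D8, Nc a ∧ InV a 40 := by decide +kernel

theorem D8_cases : ∀ a : D8, a = 1 ∨ a = zc ∨ a * a = zc ∨ Nc a := by decide +kernel

theorem nc_mul_zc : ∀ a : D8, Nc a → Nc (zc * a) ∧ zc * (zc * a) = a := by decide +kernel

/-- The standing situation. -/
structure XCtx (X : Subgroup (Equiv.Perm V)) where
  /-- The dihedral group inside `X`. -/
  d : D8 →* X
  /-- The Sylow subgroup. -/
  P : Sylow 2 X
  inj : Function.Injective d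
  lin : ∀ (x : X) (i j : V), x.1 (i ^^^ j) = x.1 i ^^^ x.1 j
  spec : ∀ (a : D8) (k : V), (d a).1 k = act a k
  mem_P : ∀ x : X, x ∈ (P : Subgroup X) ↔ ∃ a, d a = x

variable {X : Subgroup (Equiv.Perm V)}

theorem XHyp.exists_ctx (hX : XHyp X) : Nonempty (XCtx X) := by
  obtain ⟨P, hP⟩ := hX.sylow
  have hle : ∀ a, actHom a ∈ X := fun a => by
    have : actHom a ∈ (P : Subgroup X).map X.subtype := hP ▸ ⟨a, rfl⟩
    obtain ⟨x, -, hx⟩ := Subgroup.mem_map.mp this
    exact hx ▸ x.2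
  refine ⟨⟨actHom.codRestrict X hle, P, fun a b h => actHom_injective (congrArg Subtype.val h),
    fun x => hX.lin x.1 x.2, fun a k => rfl, fun x => ⟨fun hx => ?_, ?_⟩⟩⟩
  · have : (x : Equiv.Perm V) ∈ actHom.range := hP ▸ Subgroup.mem_map.mpr ⟨x, hx, rfl⟩
    obtain ⟨a, ha⟩ := this
    exact ⟨a, Subtype.ext ha⟩
  · rintro ⟨a, rfl⟩
    have : actHom a ∈ (P : Subgroup X).map X.subtype := hP ▸ ⟨a, rfl⟩
    obtain ⟨y, hy, hyx⟩ := Subgroup.mem_map.mp this
    convert hy using 1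
    exact Subtype.ext hyx.symm

namespace XCtx

variable (C : XCtx X)

theorem d_mem (a : D8) : C.d a ∈ (C.P : Subgroup X) := (C.mem_P _).mpr ⟨a, rfl⟩

theorem inv_apply_self (x : X) (k : V) : x.1 ((x⁻¹ : X).1 k) = k := by
  show (x * x⁻¹ : X).1 k = k
  rw [mul_inv_cancel]; rfl

theorem apply_inv_self (x : X) (k : V) : (x⁻¹ : X).1 (x.1 k) = k := by
  show (x⁻¹ * x : X).1 k = k
  rw [inv_mul_cancel]; rfl

theorem comm_apply {x y : X} (h : x * y = y * x) (k : V) : x.1 (y.1 k) = y.1 (x.1 k) :=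
  congrArg (fun g : X => g.1 k) h

include C

theorem map_zero' (x : X) : x.1 0 = 0 := by
  have h := C.lin x 0 0
  rwa [(vxor_self 0).1, (vxor_self _).1] at h

/-- The elements acting trivially on the three layers of `t`. -/
def layerSet (_C : XCtx X) (t : X) : Set X :=
  {σ | σ * t = t * σ ∧ (∀ k, σ.1 (t.1 k ^^^ k) = t.1 k ^^^ k) ∧
    (∀ k, t.1 k = k → ∃ j, t.1 j ^^^ j = σ.1 k ^^^ k) ∧ ∀ k, t.1 (σ.1 k ^^^ k) = σ.1 k ^^^ k}

theorem layerSet_pow_four {t σ : X} (h : σ ∈ C.layerSet t) : σ * σ * (σ * σ) = 1 := by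
  obtain ⟨-, h1, h2, h3⟩ := h
  have hb : ∀ k, σ.1 (σ.1 (σ.1 k ^^^ k) ^^^ (σ.1 k ^^^ k)) =
      σ.1 (σ.1 k ^^^ k) ^^^ (σ.1 k ^^^ k) := fun k => by
    obtain ⟨j, hj⟩ := h2 _ (h3 k)
    rw [← hj]; exact h1 j
  have hsq : ∀ k, σ.1 (σ.1 k) = k ^^^ (σ.1 (σ.1 k ^^^ k) ^^^ (σ.1 k ^^^ k)) := fun k => by
    rw [C.lin, vxor_mid, vxor_comm (σ.1 (σ.1 k)) k, vxor_cancel]
  refine Subtype.ext (Equiv.ext fun k => ?_)
  show σ.1 (σ.1 (σ.1 (σ.1 k))) = k
  obtain ⟨b, hb', hk⟩ : ∃ b, σ.1 b = b ∧ σ.1 (σ.1 k) = k ^^^ b := ⟨_, hb k, hsq k⟩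
  rw [hk, C.lin, hb', C.lin, hb', hk, vxor_cancel']

/-- The subgroup of elements acting trivially on the three layers of `t`. -/
def layer (t : X) : Subgroup X where
  carrier := C.layerSet t
  one_mem' := ⟨by rw [one_mul, mul_one], fun k => rfl, fun k _ => ⟨0, by
      rw [C.map_zero' t]; show (0 : V) ^^^ 0 = k ^^^ k; rw [(vxor_self k).1, (vxor_self 0).1]⟩,
    fun k => by show t.1 (k ^^^ k) = k ^^^ k; rw [(vxor_self k).1, C.map_zero']⟩
  mul_mem' := by
    rintro σ τ ⟨c, h1, h2, h3⟩ ⟨c', h1', h2', h3'⟩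
    refine ⟨by rw [mul_assoc, c', ← mul_assoc, c, mul_assoc], fun k => ?_, fun k hk => ?_,
      fun k => ?_⟩
    · show σ.1 (τ.1 (t.1 k ^^^ k)) = _
      rw [h1', h1]
    · obtain ⟨j, hj⟩ := h2 (τ.1 k) (by rw [← comm_apply c', hk])
      obtain ⟨j', hj'⟩ := h2' k hk
      refine ⟨j ^^^ j', ?_⟩
      show _ = σ.1 (τ.1 k) ^^^ k
      rw [C.lin, vxor_swap, hj, hj', vxor_mid]
    · show t.1 (σ.1 (τ.1 k) ^^^ k) = σ.1 (τ.1 k) ^^^ k
      rw [show σ.1 (τ.1 k) ^^^ k = (σ.1 (τ.1 k) ^^^ τ.1 k) ^^^ (τ.1 k ^^^ k) by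
        rw [vxor_assoc, vxor_cancel], C.lin, h3, h3']
  inv_mem' := by
    intro σ hσ
    have h4 := C.layerSet_pow_four hσ
    have hinv : σ⁻¹ = σ * σ * σ := inv_eq_of_mul_eq_one_right (by rw [← h4]; group)
    rw [hinv]
    obtain ⟨c, h1, h2, h3⟩ := hσ
    refine ⟨?_, fun k => ?_, fun k hk => ?_, fun k => ?_⟩
    · exact ((Commute.mul_left c c).mul_left c).eq
    · show σ.1 (σ.1 (σ.1 (t.1 k ^^^ k))) = _
      rw [h1, h1, h1]
    · obtain ⟨j1, hj1⟩ := h2 k hk
      have hk1 : t.1 (σ.1 k) = σ.1 k := by rw [← comm_apply c, hk]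
      obtain ⟨j2, hj2⟩ := h2 _ hk1
      obtain ⟨j3, hj3⟩ := h2 _ (show t.1 (σ.1 (σ.1 k)) = σ.1 (σ.1 k) by rw [← comm_apply c, hk1])
      refine ⟨(j3 ^^^ j2) ^^^ j1, ?_⟩
      show _ = σ.1 (σ.1 (σ.1 k)) ^^^ k
      rw [C.lin, vxor_swap, C.lin, vxor_swap (t.1 j3), hj1, hj2, hj3, vxor_mid, vxor_mid]
    · show t.1 (σ.1 (σ.1 (σ.1 k)) ^^^ k) = σ.1 (σ.1 (σ.1 k)) ^^^ k
      obtain ⟨u, hu, hu3⟩ : ∃ u, σ.1 (σ.1 k) ^^^ k = u ∧ t.1 u = u := ⟨_, rfl, by
        rw [← vxor_mid _ (σ.1 k) k, C.lin, h3, h3]⟩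
      rw [← vxor_mid _ (σ.1 (σ.1 k)) k, hu, C.lin, h3, hu3]

theorem isPGroup_layer (t : X) : IsPGroup 2 (C.layer t) := fun ⟨σ, hσ⟩ => by
  refine ⟨2, Subtype.ext ?_⟩
  have h := C.layerSet_pow_four hσ
  show σ ^ (2 ^ 2) = 1
  rw [show (2 : ℕ) ^ 2 = 2 + 2 by norm_num, pow_add, pow_two]
  exact h

theorem layer_conj {t g σ : X} (hg : g * t = t * g) (hσ : σ ∈ C.layer t) :
    g * σ * g⁻¹ ∈ C.layer t := by
  obtain ⟨c, h1, h2, h3⟩ := hσ
  have hg' : g⁻¹ * t = t * g⁻¹ := (Commute.inv_left hg).eq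
  refine ⟨((Commute.mul_left (show Commute g t from hg) c).mul_left hg').eq, fun k => ?_,
    fun k hk => ?_, fun k => ?_⟩
  · show g.1 (σ.1 ((g⁻¹ : X).1 (t.1 k ^^^ k))) = _
    rw [C.lin g⁻¹, comm_apply hg', h1, C.lin g, comm_apply hg, inv_apply_self]
  · obtain ⟨j, hj⟩ := h2 ((g⁻¹ : X).1 k) (by rw [← comm_apply hg', hk])
    refine ⟨g.1 j, ?_⟩
    show _ = g.1 (σ.1 ((g⁻¹ : X).1 k)) ^^^ k
    rw [← comm_apply hg, ← C.lin g, hj, C.lin g, inv_apply_self]
  · show t.1 (g.1 (σ.1 ((g⁻¹ : X).1 k)) ^^^ k) = g.1 (σ.1 ((g⁻¹ : X).1 k)) ^^^ k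
    conv_lhs => rw [← inv_apply_self g k, apply_inv_self, ← C.lin g, ← comm_apply hg, h3]
    rw [C.lin g, inv_apply_self]

theorem d_mem_layer {a b : D8} (ha : Inv a) (hab : a * b = b * a) :
    C.d b ∈ C.layer (C.d a) := by
  refine ⟨by rw [← map_mul, ← map_mul, hab], fun k => ?_, fun k hk => ?_, fun k => ?_⟩
  · rw [C.spec, C.spec]; exact layer_V a b ha hab k
  · rw [C.spec] at hk
    obtain ⟨j, hj⟩ := layer_fix a b ha hab k hk
    exact ⟨j, by rw [C.spec, C.spec]; exact hj⟩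
  · rw [C.spec, C.spec]; exact comm_step a b ha hab k

theorem layer_zc : C.layer (C.d zc) = (C.P : Subgroup X) :=
  C.P.is_maximal' (C.isPGroup_layer _) fun x hx => by
    obtain ⟨b, rfl⟩ := (C.mem_P x).mp hx
    exact C.d_mem_layer zc_inv (zc_central b)

/-- A fixed point of an odd power is a fixed point. -/
theorem fix_of_sq {y : X} (hy : Odd (orderOf y)) {k : V} (h : y.1 (y.1 k) = k) : y.1 k = k := by
  obtain ⟨m, hm⟩ := exists_pow_eq_self_of_coprime (x := y) (n := 2)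
    ((Nat.prime_two.coprime_iff_not_dvd).mpr hy.not_two_dvd_nat)
  have hmem : (y ^ 2) ^ m ∈ MulAction.stabilizer X k := pow_mem (by
    rw [MulAction.mem_stabilizer_iff, pow_two]; exact h) m
  rw [hm] at hmem
  exact hmem

theorem fix_of_fix_diff {y : X} (hy : Odd (orderOf y)) {k : V}
    (h : y.1 (y.1 k ^^^ k) = y.1 k ^^^ k) : y.1 k = k := by
  refine C.fix_of_sq hy ?_
  rw [C.lin] at h
  have h' := congrArg (fun v => v ^^^ y.1 k) h
  simp only [vxor_cancel'] at h'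
  rw [h', vxor_comm (y.1 k) k, vxor_cancel']

/-- An element of odd order centralising the Sylow subgroup is trivial. -/
theorem eq_one_of_commute_all {y : X} (hy : Odd (orderOf y))
    (hc : ∀ a, y * C.d a = C.d a * y) : y = 1 := by
  have hinj : Function.Injective y.1 := y.1.injective
  have hcomm : ∀ a k, y.1 (act a k) = act a (y.1 k) := fun a k => by
    have := comm_apply (hc a) k
    rwa [C.spec, C.spec] at this
  have hD : ∀ k, (∀ a, act a k = k) → ∀ a, act a (y.1 k) = y.1 k := fun k h a => by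
    rw [← hcomm, h a]
  have hinv : ∀ a k, InV a (y.1 k) → InV a k := by
    rintro a k ⟨j, hj⟩
    refine ⟨(y⁻¹ : X).1 j, hinj ?_⟩
    rw [C.lin, hcomm, inv_apply_self, hj]
  have h44 : y.1 44 = 44 := by
    rcases fixed_all _ (hD 44 fun a => (fixed_mem a).2.2.2) with h | h | h | h
    · rw [← C.map_zero' y] at h
      exact absurd (hinj h) (by decide)
    · obtain ⟨a, ha, h4⟩ := c_pos.1
      exact absurd (hinv a 44 (h ▸ h4)) (c0_not_mem a ha)
    · obtain ⟨a, ha, h4⟩ := c_pos.2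
      exact absurd (hinv a 44 (h ▸ h4)) (c0_not_mem a ha)
    · exact h
  have hne : ∀ k : V, k ≠ 0 → k ≠ 44 → (∀ a, act a k = k) → y.1 k = 4 ∨ y.1 k = 40 := by
    intro k h0 h4 hk
    rcases fixed_all _ (hD k hk) with h | h | h | h
    · exact absurd (hinj (h.trans (C.map_zero' y).symm)) h0
    · exact Or.inl h
    · exact Or.inr h
    · exact absurd (hinj (h.trans h44.symm)) h4
  have h4 : y.1 4 = 4 := by
    rcases hne 4 (by decide) (by decide) (fun a => (fixed_mem a).2.1) with h | h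
    · exact h
    · rcases hne 40 (by decide) (by decide) (fun a => (fixed_mem a).2.2.1) with h' | h'
      · exact C.fix_of_sq hy (by rw [h, h'])
      · exact absurd (hinj (h.trans h'.symm)) (by decide)
  have h40 : y.1 40 = 40 := by
    rcases hne 40 (by decide) (by decide) (fun a => (fixed_mem a).2.2.1) with h' | h'
    · exact absurd (hinj (h'.trans h4.symm)) (by decide)
    · exact h'
  refine Subtype.ext (Equiv.ext fun k => ?_)
  show y.1 k = k
  by_contra hk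
  have hw : y.1 k ^^^ k ≠ 0 := fun h => hk ((vxor_eq_zero _ _).mp h)
  have hW : ∀ n : ℕ, ∃ j, y.1 j ^^^ j = step^[n] (y.1 k ^^^ k) := by
    intro n
    induction n with
    | zero => exact ⟨k, rfl⟩
    | succ n ih =>
      obtain ⟨j, hj⟩ := ih
      rw [Function.iterate_succ_apply']
      rcases step_cases (step^[n] (y.1 k ^^^ k)) with h | ⟨e, h⟩ <;> rw [h, ← hj]
      · exact ⟨j, rfl⟩
      · exact ⟨act e j ^^^ j, by rw [C.lin, act_xor, hcomm, vxor_swap]⟩
  obtain ⟨j, hj⟩ := hW 6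
  obtain ⟨hne', hfix⟩ := step_fixed _ hw
  rw [← hj] at hne' hfix
  have hjfix : y.1 (y.1 j ^^^ j) = y.1 j ^^^ j := by
    rcases fixed_all _ hfix with h | h | h | h <;> rw [h]
    · exact C.map_zero' y
    · exact h4
    · exact h40
    · exact h44
  exact hne' ((vxor_eq_zero _ _).mpr (C.fix_of_fix_diff hy hjfix))

theorem conj_d_of_commute_zc {g : X} (hg : g * C.d zc = C.d zc * g) (a : D8) :
    ∃ b, C.d b = g * C.d a * g⁻¹ := by
  apply (C.mem_P _).mp
  rw [← C.layer_zc]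
  exact C.layer_conj hg (C.d_mem_layer zc_inv (zc_central a))

theorem eq_one_of_commute_zc {y : X} (hy : Odd (orderOf y))
    (hc : y * C.d zc = C.d zc * y) : y = 1 := by
  choose f hf using C.conj_d_of_commute_zc hc
  have hmul : ∀ a b, f (a * b) = f a * f b := fun a b => C.inj (by
    rw [map_mul, hf, hf, hf, map_mul]; group)
  let F : D8 →* D8 := MonoidHom.mk' f hmul
  have hendo : ∀ a, endo (f (DihedralGroup.r 1)) (f (DihedralGroup.sr 0)) a = f a := by
    rintro (i | i)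
    · show f (DihedralGroup.r 1) ^ i.val = f (DihedralGroup.r i)
      rw [show f (DihedralGroup.r 1) = F (DihedralGroup.r 1) from rfl, ← map_pow,
        DihedralGroup.r_one_pow, ZMod.natCast_zmod_val]
      rfl
    · show f (DihedralGroup.sr 0) * f (DihedralGroup.r 1) ^ i.val = f (DihedralGroup.sr i)
      rw [show f (DihedralGroup.r 1) = F (DihedralGroup.r 1) from rfl,
        show f (DihedralGroup.sr 0) = F (DihedralGroup.sr 0) from rfl, ← map_pow, ← map_mul,
        DihedralGroup.r_one_pow, ZMod.natCast_zmod_val, DihedralGroup.sr_mul_r, zero_add]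
      rfl
  have h8 := endo_pow (f (DihedralGroup.r 1)) (f (DihedralGroup.sr 0))
    (fun a b => by rw [hendo, hendo, hendo, hmul]) (fun a ha => by
      rw [hendo] at ha
      refine C.inj ?_
      have := hf a
      rw [ha, map_one] at this
      rw [map_one]
      exact conj_eq_one_iff.mp this.symm)
  have hiter : ∀ (n : ℕ) (a : D8),
      C.d ((endo (f (DihedralGroup.r 1)) (f (DihedralGroup.sr 0)))^[n] a) =
        y ^ n * C.d a * (y ^ n)⁻¹ := by
    intro n
    induction n with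
    | zero => intro a; simp
    | succ n ih =>
      intro a
      rw [Function.iterate_succ_apply', hendo, hf, ih, pow_succ', mul_inv_rev]
      simp only [mul_assoc]
  have h8' : ∀ a, y ^ 8 * C.d a = C.d a * y ^ 8 := fun a => by
    have := hiter 8 a
    rw [h8 a, eq_mul_inv_iff_mul_eq] at this
    exact this.symm
  refine C.eq_one_of_commute_all hy fun a => ?_
  obtain ⟨m, hm⟩ := exists_pow_eq_self_of_coprime (x := y) (n := 8) (by
    rw [show (8 : ℕ) = 2 ^ 3 by norm_num]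
    exact ((Nat.prime_two.coprime_iff_not_dvd).mpr hy.not_two_dvd_nat).pow_left 3)
  have := (show Commute (y ^ 8) (C.d a) from h8' a).pow_left m
  rwa [hm] at this

theorem orderOf_d {a : D8} (ha : Inv a) : orderOf (C.d a) = 2 := by
  rw [orderOf_injective _ C.inj]
  exact orderOf_eq_prime (by rw [pow_two]; exact ha.1) ha.2

theorem inv_of_orderOf {b : D8} (h : orderOf (C.d b) = 2) : Inv b := by
  rw [orderOf_injective _ C.inj] at h
  refine ⟨?_, fun hb => ?_⟩
  · rw [← pow_two, ← h, pow_orderOf_eq_one]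
  · rw [hb, orderOf_one] at h; omega

/-- A 2-subgroup is conjugate into the Sylow subgroup. -/
theorem exists_conj_into (L : Subgroup X) (hL : IsPGroup 2 L) :
    ∃ g : X, ∀ x ∈ L, ∃ a, C.d a = g * x * g⁻¹ := by
  haveI : Fact (Nat.Prime 2) := ⟨Nat.prime_two⟩
  obtain ⟨Q, hQ⟩ := hL.exists_le_sylow
  obtain ⟨g, hg⟩ := MulAction.exists_smul_eq X Q C.P
  refine ⟨g, fun x hx => (C.mem_P _).mp ?_⟩
  rw [← hg]
  exact Subgroup.smul_mem_pointwise_smul x (MulAut.conj g) _ (hQ hx)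

theorem exists_conj_d (t : X) (ht : orderOf t = 2) :
    ∃ g a, Inv a ∧ C.d a = g * t * g⁻¹ := by
  haveI : Fact (Nat.Prime 2) := ⟨Nat.prime_two⟩
  obtain ⟨g, hg⟩ := C.exists_conj_into (zpowers t) (IsPGroup.of_card (n := 1) (by
    rw [Nat.card_zpowers, ht, pow_one]))
  obtain ⟨a, ha⟩ := hg t (mem_zpowers t)
  refine ⟨g, a, C.inv_of_orderOf ?_, ha⟩
  rw [ha, ← MulAut.conj_apply, MulEquiv.orderOf_eq, ht]

/-- A 2-group centralising a noncentral involution: either it is small or the involution is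
conjugate to the central one. -/
theorem four_of_twoGroup {s : D8} (hs : Nc s) (L : Subgroup X) (hL : IsPGroup 2 L)
    (hLs : ∀ l ∈ L, l * C.d s = C.d s * l) (hz : C.d zc ∈ L) (hsL : C.d s ∈ L) :
    (∃ g : X, C.d zc = g * C.d s * g⁻¹) ∨
      ∀ l ∈ L, l = 1 ∨ l = C.d zc ∨ l = C.d s ∨ l = C.d zc * C.d s := by
  obtain ⟨g, hg⟩ := C.exists_conj_into L hL
  obtain ⟨s', hs'⟩ := hg _ hsL
  by_cases hsz : s' = zc
  · exact Or.inl ⟨g, hsz ▸ hs'⟩
  right
  intro l hl
  obtain ⟨u, hu⟩ := hg _ hz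
  obtain ⟨v, hv⟩ := hg _ hl
  have hinv : Inv s' := C.inv_of_orderOf (by
    rw [hs', ← MulAut.conj_apply, MulEquiv.orderOf_eq, C.orderOf_d ⟨hs.1, hs.2.1⟩])
  have hc : ∀ (x : X) (b : D8), C.d b = g * x * g⁻¹ → x * C.d s = C.d s * x →
      s' * b = b * s' := fun x b hb hx => C.inj (by
    rw [map_mul, map_mul, hb, hs', ← MulAut.conj_apply, ← MulAut.conj_apply, ← map_mul, ← map_mul,
      hx])
  have hu1 : u ≠ 1 := fun h => by
    rw [h, map_one] at hu
    have : C.d zc = 1 := by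
      have := congrArg (fun x => g⁻¹ * x * g) hu
      simpa [mul_assoc] using this.symm
    exact zc_inv.2 (C.inj (this.trans (map_one C.d).symm))
  have hus : u ≠ s' := fun h => by
    rw [h, hs'] at hu
    exact hs.2.2 (C.inj (by simpa using hu))
  rcases four_set s' u v ⟨hinv.1, hinv.2, hsz⟩ (hc _ u hu (hLs _ hz)) (hc _ v hv (hLs _ hl))
    hu1 hus with h | h | h | h <;> subst h
  · rw [map_one] at hv
    exact Or.inl (by simpa [mul_assoc] using (congrArg (fun x => g⁻¹ * x * g) hv).symm)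
  · exact Or.inr (Or.inl (by simpa using hv.symm.trans hu))
  · exact Or.inr (Or.inr (Or.inl (by simpa using hv.symm.trans hs')))
  · refine Or.inr (Or.inr (Or.inr ?_))
    rw [map_mul, hu, hs', ← MulAut.conj_apply, ← MulAut.conj_apply, ← MulAut.conj_apply,
      ← map_mul] at hv
    exact (MulAut.conj g).injective hv.symm

theorem d_mem_layer_self {a : D8} (ha : Inv a) : C.d a ∈ C.layer (C.d a) := C.d_mem_layer ha rfl

/-- No nontrivial element of odd order centralises an involution. -/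
theorem eq_one_of_commute_involution {y t : X} (hy : Odd (orderOf y)) (ht : orderOf t = 2)
    (hc : y * t = t * y) : y = 1 := by
  have hconj : ∀ (g : X), orderOf (g * y * g⁻¹) = orderOf y := fun g => by
    rw [← MulAut.conj_apply, MulEquiv.orderOf_eq]
  obtain ⟨g, a, ha, hga⟩ := C.exists_conj_d t ht
  suffices h : g * y * g⁻¹ = 1 by simpa using h
  have hc' : (g * y * g⁻¹) * C.d a = C.d a * (g * y * g⁻¹) := by
    rw [hga, ← MulAut.conj_apply, ← MulAut.conj_apply, ← map_mul, ← map_mul, hc]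
  generalize hw : g * y * g⁻¹ = w at hc' ⊢
  have hwo : Odd (orderOf w) := by rw [← hw, hconj]; exact hy
  by_cases haz : a = zc
  · subst haz; exact C.eq_one_of_commute_zc hwo hc'
  have hnc : Nc a := ⟨ha.1, ha.2, haz⟩
  rcases C.four_of_twoGroup hnc (C.layer (C.d a)) (C.isPGroup_layer _) (fun l hl => hl.1)
      (C.d_mem_layer ha (zc_central a).symm) (C.d_mem_layer_self ha) with ⟨k, hk⟩ | hfour
  · suffices h : k * w * k⁻¹ = 1 by simpa using h
    refine C.eq_one_of_commute_zc ?_ ?_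
    · rw [← MulAut.conj_apply, MulEquiv.orderOf_eq]; exact hwo
    · rw [hk, ← MulAut.conj_apply, ← MulAut.conj_apply, ← map_mul, ← map_mul, hc']
  have hcz : w * C.d zc * w⁻¹ = C.d zc ∨ w * C.d zc * w⁻¹ = C.d zc * C.d a := by
    rcases hfour _ (C.layer_conj hc' (C.d_mem_layer ha (zc_central a).symm)) with h | h | h | h
    · exact absurd (C.inj ((conj_eq_one_iff.mp h).trans (map_one C.d).symm)) zc_inv.2
    · exact Or.inl h
    · exfalso
      refine haz (C.inj ?_)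
      rw [mul_inv_eq_iff_eq_mul, ← hc'] at h
      exact (mul_left_cancel h).symm
    · exact Or.inr h
  obtain ⟨m, hm⟩ := exists_pow_eq_self_of_coprime (x := w) (n := 2)
    ((Nat.prime_two.coprime_iff_not_dvd).mpr hwo.not_two_dvd_nat)
  have h2 : w ^ 2 * C.d zc = C.d zc * w ^ 2 := by
    rcases hcz with h | h
    · exact ((show Commute w (C.d zc) from mul_inv_eq_iff_eq_mul.mp h).pow_left 2).eq
    · have hwa : w * C.d a * w⁻¹ = C.d a := by rw [hc', mul_inv_cancel_right]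
      refine mul_inv_eq_iff_eq_mul.mp ?_
      calc w ^ 2 * C.d zc * (w ^ 2)⁻¹ = w * (w * C.d zc * w⁻¹) * w⁻¹ := by
            rw [pow_two, mul_inv_rev]; simp only [mul_assoc]
        _ = w * (C.d zc * C.d a) * w⁻¹ := by rw [h]
        _ = (w * C.d zc * w⁻¹) * (w * C.d a * w⁻¹) := by simp only [mul_assoc, inv_mul_cancel_left]
        _ = C.d zc := by rw [h, hwa, mul_assoc, ← map_mul, ha.1, map_one, mul_one]
  refine C.eq_one_of_commute_zc hwo ?_
  have := (show Commute (w ^ 2) (C.d zc) from h2).pow_left m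
  rwa [hm] at this

theorem inverts_of_normal (N : Subgroup X) (hN : Odd (Nat.card N)) {t : X} (ht : orderOf t = 2)
    (hnorm : ∀ n ∈ N, t * n * t⁻¹ ∈ N) : ∀ n ∈ N, t * n * t⁻¹ = n⁻¹ := by
  have htt : t * t = 1 := by rw [← pow_two, ← ht, pow_orderOf_eq_one]
  have hti : t⁻¹ = t := inv_eq_of_mul_eq_one_right htt
  let φ : N → N := fun n => ⟨(n : X)⁻¹ * (t * n * t⁻¹), mul_mem (inv_mem n.2) (hnorm _ n.2)⟩
  have hφ : Function.Injective φ := by
    rintro ⟨n, hn⟩ ⟨m, hm⟩ h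
    have h' : n⁻¹ * (t * n * t⁻¹) = m⁻¹ * (t * m * t⁻¹) := congrArg Subtype.val h
    have hodd : Odd (orderOf (m * n⁻¹)) := hN.of_dvd_nat (by
      have := orderOf_dvd_natCard (G := N) ⟨m * n⁻¹, mul_mem hm (inv_mem hn)⟩
      rwa [← Subgroup.orderOf_coe] at this)
    have hcomm : (m * n⁻¹) * t = t * (m * n⁻¹) := by
      calc (m * n⁻¹) * t = m * (n⁻¹ * (t * n * t⁻¹)) * (t * n * t⁻¹)⁻¹ * t := by group
        _ = m * (m⁻¹ * (t * m * t⁻¹)) * (t * n * t⁻¹)⁻¹ * t := by rw [h']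
        _ = t * (m * n⁻¹) := by group
    exact Subtype.ext (mul_inv_eq_one.mp (C.eq_one_of_commute_involution hodd ht hcomm)).symm
  intro n hn
  obtain ⟨⟨m, hm⟩, hφm⟩ := (Finite.injective_iff_surjective.mp hφ) ⟨n, hn⟩
  have h1 : m⁻¹ * (t * m * t⁻¹) = n := congrArg Subtype.val hφm
  rw [← h1, mul_inv_rev, inv_inv]
  simp only [hti, mul_inv_rev, mul_assoc]
  rw [reassoc_tt htt]
where
  reassoc_tt {t : X} (htt : t * t = 1) : ∀ {a b : X}, a * (b * (t * t)) = a * b := by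
    intro a b; rw [htt, mul_one]

/-- An odd subgroup normalised by a four-group is trivial. -/
theorem odd_normal_eq_bot (N : Subgroup X) (hN : Odd (Nat.card N))
    (hnorm : ∀ a, ∀ n ∈ N, C.d a * n * (C.d a)⁻¹ ∈ N) : N = ⊥ := by
  refine (Subgroup.eq_bot_iff_forall N).mpr fun n hn => ?_
  have hs : Nc (DihedralGroup.sr 0 : D8) := by decide
  have hzs := (nc_mul_zc _ hs).1
  have hinv : ∀ a : D8, Inv a → ∀ n ∈ N, C.d a * n * (C.d a)⁻¹ = n⁻¹ := fun a ha =>
    C.inverts_of_normal N hN (C.orderOf_d ha) (hnorm a)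
  have h1 := hinv zc zc_inv n hn
  have h2 := hinv _ ⟨hs.1, hs.2.1⟩ n hn
  have h3 := hinv _ ⟨hzs.1, hzs.2.1⟩ n hn
  have h4 := hinv zc zc_inv n⁻¹ (inv_mem hn)
  rw [map_mul, mul_inv_rev, show ∀ a b : X, a * b * n * (b⁻¹ * a⁻¹) = a * (b * n * b⁻¹) * a⁻¹ from
    fun a b => by group, h2, h4, inv_inv] at h3
  have hsq : n ^ 2 = 1 := by rw [pow_two]; exact mul_eq_one_iff_eq_inv.mpr h3
  have hd2 := orderOf_dvd_of_pow_eq_one hsq
  have hodd : Odd (orderOf n) := hN.of_dvd_nat (by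
    have := orderOf_dvd_natCard (G := N) ⟨n, hn⟩
    rwa [← Subgroup.orderOf_coe] at this)
  rcases (Nat.dvd_prime Nat.prime_two).mp hd2 with h | h
  · exact orderOf_eq_one_iff.mp h
  · rw [h] at hodd; exact absurd hodd (by decide)

theorem centralizer_zc : centralizer ({C.d zc} : Set X) = (C.P : Subgroup X) := by
  refine C.P.is_maximal' ?_ fun x hx => ?_
  · intro ⟨x, hx⟩
    obtain ⟨k, m, hm, hx2⟩ := Nat.exists_eq_two_pow_mul_odd (orderOf_pos x).ne'
    refine ⟨k, Subtype.ext ?_⟩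
    show x ^ 2 ^ k = 1
    refine C.eq_one_of_commute_zc ?_ ((Commute.pow_left
      (show Commute x (C.d zc) from mem_centralizer_singleton_iff.mp hx) _).eq)
    rw [orderOf_pow_of_dvd (by positivity) ⟨m, hx2⟩, hx2, Nat.mul_div_cancel_left _ (by positivity)]
    exact hm
  · obtain ⟨a, rfl⟩ := (C.mem_P x).mp hx
    rw [mem_centralizer_singleton_iff, ← map_mul, ← map_mul, zc_central]

/-- A subgroup in which the central involution is isolated is the Sylow subgroup. -/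
theorem eq_P_of_isolated (H : Subgroup X) (hPH : (C.P : Subgroup X) ≤ H)
    (hiso : ∀ h ∈ H, ∀ a, Nc a → h * C.d zc * h⁻¹ ≠ C.d a) : H = (C.P : Subgroup X) := by
  refine le_antisymm (fun h hh => ?_) hPH
  let P' : Sylow 2 H := C.P.subtype hPH
  let z : H := ⟨C.d zc, hPH (C.d_mem zc)⟩
  have hz : orderOf z = 2 := by rw [← Subgroup.orderOf_coe]; exact C.orderOf_d zc_inv
  have hiso' : ∀ g : H, g * z * g⁻¹ ∈ P' → g * z * g⁻¹ = z := by
    intro g hg
    have hg' : (g : X) * C.d zc * (g : X)⁻¹ ∈ (C.P : Subgroup X) := hg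
    obtain ⟨b, hb⟩ := (C.mem_P _).mp hg'
    have hbi : Inv b := C.inv_of_orderOf (by
      rw [hb, ← MulAut.conj_apply, MulEquiv.orderOf_eq, C.orderOf_d zc_inv])
    have hbz : b = zc := by
      by_contra hbz
      exact hiso g g.2 b ⟨hbi.1, hbi.2, hbz⟩ hb.symm
    refine Subtype.ext ?_
    show (g : X) * C.d zc * (g : X)⁻¹ = C.d zc
    rw [← hb, hbz]
  obtain ⟨N, hNn, hNo, hNc⟩ := S0215.result P' z hz (C.d_mem zc) hiso'
  have hN : N.map H.subtype = ⊥ := by
    refine C.odd_normal_eq_bot _ ?_ ?_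
    · rw [Subgroup.card_map_of_injective H.subtype_injective]; exact hNo
    · rintro a _ ⟨n, hn, rfl⟩
      exact ⟨⟨C.d a, hPH (C.d_mem a)⟩ * n * ⟨C.d a, hPH (C.d_mem a)⟩⁻¹, hNn.conj_mem n hn _, rfl⟩
  have hc : C.d zc * h * (C.d zc)⁻¹ * h⁻¹ ∈ N.map H.subtype := ⟨_, hNc ⟨h, hh⟩, rfl⟩
  rw [hN, Subgroup.mem_bot, mul_inv_eq_one, mul_inv_eq_iff_eq_mul] at hc
  rw [← C.centralizer_zc, mem_centralizer_singleton_iff]
  exact hc.symm

end XCtx

end Cfsg.Agent.M24Type41
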