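import Cfsg.Agent.M24Type41.XBase
import Cfsg.Agent.S0213
import Cfsg.Agent.InvChar68.D8Centralizer

/-!
# Fusion of involutions in the linear groups on the group of order 64

If the central involution of the dihedral Sylow subgroup is isolated the group is that subgroup;
if it is fused to one class of noncentral involutions the order is 24; otherwise the group is
simple of order 168 or 360.
-/

set_option autoImplicit false

namespace Cfsg.Agent.M24Type41

open Subgroup

theorem sq_or_of_pow : ∀ w c : D8, Inv c → w ≠ c → w * w ≠ c → ∀ k : Fin 4, w ^ k.val ≠ c := by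
  decide +kernel

theorem pow_four_eq : ∀ w : D8, w ^ 4 = 1 := by decide +kernel

theorem D8_gen_inv : ∀ w : D8, ∃ i j : D8, i * j = w ∧ i * i = 1 ∧ j * j = 1 := by decide +kernel

theorem conj_four : ∀ u v : D8, Inv u → v * u * v⁻¹ = u ∨ v * u * v⁻¹ = zc * u := by
  decide +kernel

theorem four_card : ∀ b : D8, Nc b → ({1, zc, b, zc * b} : Finset D8).card = 4 := by
  decide +kernel

theorem comm_of_four : ∀ b : D8, Nc b → ∀ v ∈ ({1, zc, b, zc * b} : Finset D8), v * b = b * v := by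
  decide +kernel

/-- Pairs for the first coefficient of the order formula. -/
def pairsOne (a b : D8) : Finset (D8 × D8) :=
  Finset.univ.filter fun q => (q.1 = zc ∨ q.1 = a ∨ q.1 = zc * a) ∧ (q.2 = b ∨ q.2 = zc * b) ∧
    (q.1 * q.2 = zc ∨ q.1 * q.2 * (q.1 * q.2) = zc)

/-- Pairs for the second coefficient of the order formula. -/
def pairsTwo (a b : D8) : Finset (D8 × D8) :=
  Finset.univ.filter fun q => (q.1 = zc ∨ q.1 = a ∨ q.1 = zc * a) ∧ (q.2 = b ∨ q.2 = zc * b) ∧
    q.1 * b = b * q.1 ∧ q.2 * b = b * q.2 ∧ (q.1 * q.2 = b ∨ q.1 * q.2 * (q.1 * q.2) = b)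

theorem pairs_card : ∀ a b : D8, Nc a → Nc b → b ≠ a → b ≠ zc * a →
    (pairsOne a b).card = 4 ∧ (pairsTwo a b).card = 1 := by decide +kernel

theorem eq_or_sq_of_mem_zpowers {w c : D8} (hc : Inv c) (h : c ∈ zpowers w) :
    w = c ∨ w * w = c := by
  rw [← mem_powers_iff_mem_zpowers, Submonoid.mem_powers_iff] at h
  obtain ⟨k, hk⟩ := h
  by_contra hne
  rw [not_or] at hne
  rw [pow_eq_pow_mod k (pow_four_eq w)] at hk
  exact sq_or_of_pow w c hc hne.1 hne.2 ⟨k % 4, Nat.mod_lt _ (by norm_num)⟩ hk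

theorem mem_zpowers_of_eq_or_sq {w c : D8} (h : w = c ∨ w * w = c) : c ∈ zpowers w := by
  rcases h with rfl | rfl
  · exact mem_zpowers _
  · exact mul_mem (mem_zpowers _) (mem_zpowers _)

theorem commute_of_mem_zpowers {G : Type*} [Group G] {u v x : G} (hu : u * u = 1) (hv : v * v = 1)
    (hx : x * x = 1) (h : x ∈ zpowers (u * v)) : u * x = x * u ∧ v * x = x * v := by
  obtain ⟨n, rfl⟩ := h
  simp only at hx ⊢
  have hinv : ((u * v) ^ n)⁻¹ = (u * v) ^ n := inv_eq_of_mul_eq_one_right hx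
  have hu' : u⁻¹ = u := inv_eq_of_mul_eq_one_right hu
  have hv' : v⁻¹ = v := inv_eq_of_mul_eq_one_right hv
  constructor
  · rw [← mul_inv_eq_iff_eq_mul, ← conj_zpow, show u * (u * v) * u⁻¹ = (u * v)⁻¹ by
      rw [mul_inv_rev, hu', hv', ← mul_assoc u u v, hu, one_mul], inv_zpow, hinv]
  · rw [← mul_inv_eq_iff_eq_mul, ← conj_zpow, show v * (u * v) * v⁻¹ = (u * v)⁻¹ by
      rw [mul_inv_rev, hu', hv', mul_assoc, mul_assoc, hv, mul_one], inv_zpow, hinv]

namespace XCtx

variable {X : Subgroup (Equiv.Perm V)} (C : XCtx X)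

/-- The central involution is conjugate to `a`. -/
def Fused (a : D8) : Prop := IsConj (C.d zc) (C.d a)

include C

theorem fused_mul_zc {a : D8} (ha : Nc a) (h : C.Fused a) : C.Fused (zc * a) := by
  obtain ⟨e, he⟩ := nc_conj a ha
  exact IsConj.trans h (isConj_iff.mpr ⟨C.d e, by rw [← map_inv, ← map_mul, ← map_mul, he]⟩)

theorem card_P : Nat.card (C.P : Subgroup X) = 8 := by
  rw [← Nat.card_eq_of_bijective (fun a => (⟨C.d a, C.d_mem a⟩ : (C.P : Subgroup X)))
    ⟨fun a b h => C.inj (congrArg Subtype.val h), fun ⟨x, hx⟩ => ?_⟩]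
  · rw [DihedralGroup.nat_card]
  · obtain ⟨a, ha⟩ := (C.mem_P x).mp hx
    exact ⟨a, Subtype.ext ha⟩

theorem orderOf_conj {x y : X} (h : IsConj x y) : orderOf y = orderOf x := by
  obtain ⟨g, rfl⟩ := isConj_iff.mp h
  rw [← MulAut.conj_apply, MulEquiv.orderOf_eq]

theorem card_eight (h : ∀ a, Nc a → ¬ C.Fused a) : Nat.card X = 8 := by
  have := C.eq_P_of_isolated ⊤ le_top fun g _ a ha hg => h a ha (isConj_iff.mpr ⟨g, hg⟩)
  rw [← C.card_P, ← this, Subgroup.card_top]

section two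

variable {a b : D8} (ha : Nc a) (hb : Nc b) (hfa : C.Fused a) (hfb : ¬ C.Fused b)

include ha hb hfa hfb

theorem ne_of_unfused : b ≠ a ∧ b ≠ zc * a :=
  ⟨fun h => hfb (h ▸ hfa), fun h => hfb (h ▸ C.fused_mul_zc ha hfa)⟩

omit ha hb hfa in
theorem unfused_mul_zc (hb : Nc b) : ¬ C.Fused (zc * b) := fun h =>
  hfb ((nc_mul_zc b hb).2 ▸ C.fused_mul_zc (nc_mul_zc b hb).1 h)

theorem isConj_zc_iff {i : D8} (hi : Inv i) :
    IsConj (C.d zc) (C.d i) ↔ i = zc ∨ i = a ∨ i = zc * a := by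
  constructor
  · intro h
    by_cases hz : i = zc
    · exact Or.inl hz
    obtain ⟨hne, hne'⟩ := C.ne_of_unfused ha hb hfa hfb
    rcases nc_class a b ha hb hne hne' i ⟨hi.1, hi.2, hz⟩ with h' | h' | h' | h'
    · exact Or.inr (Or.inl h')
    · exact Or.inr (Or.inr h')
    · exact absurd (h' ▸ h) hfb
    · exact absurd (h' ▸ h) (C.unfused_mul_zc hfb hb)
  · rintro (rfl | rfl | rfl)
    · exact IsConj.refl _
    · exact hfa
    · exact C.fused_mul_zc ha hfa

theorem isConj_b_iff {i : D8} (hi : Inv i) :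
    IsConj (C.d b) (C.d i) ↔ i = b ∨ i = zc * b := by
  constructor
  · intro h
    have hn : ¬ (i = zc ∨ i = a ∨ i = zc * a) := fun h' =>
      hfb (((C.isConj_zc_iff ha hb hfa hfb hi).mpr h').trans h.symm)
    rw [not_or, not_or] at hn
    obtain ⟨hne, hne'⟩ := C.ne_of_unfused ha hb hfa hfb
    rcases nc_class a b ha hb hne hne' i ⟨hi.1, hi.2, hn.1⟩ with h' | h' | h' | h'
    · exact absurd h' hn.2.1
    · exact absurd h' hn.2.2
    · exact Or.inl h'
    · exact Or.inr h'
  · rintro (rfl | rfl)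
    · exact IsConj.refl _
    · obtain ⟨e, he⟩ := nc_conj b hb
      exact isConj_iff.mpr ⟨C.d e, by rw [← map_inv, ← map_mul, ← map_mul, he]⟩

omit ha hfa in
theorem exists_of_commute_b {w : X} (hw : w * C.d b = C.d b * w) :
    ∃ v ∈ ({1, zc, b, zc * b} : Finset D8), C.d v = w := by
  have hL : IsPGroup 2 (centralizer ({C.d b} : Set X)) := by
    intro ⟨x, hx⟩
    obtain ⟨k, m, hm, hx2⟩ := Nat.exists_eq_two_pow_mul_odd (orderOf_pos x).ne'
    refine ⟨k, Subtype.ext ?_⟩
    show x ^ 2 ^ k = 1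
    refine C.eq_one_of_commute_involution ?_ (C.orderOf_d ⟨hb.1, hb.2.1⟩) ((Commute.pow_left
      (show Commute x (C.d b) from mem_centralizer_singleton_iff.mp hx) _).eq)
    rw [orderOf_pow_of_dvd (by positivity) ⟨m, hx2⟩, hx2,
      Nat.mul_div_cancel_left _ (by positivity)]
    exact hm
  rcases C.four_of_twoGroup hb _ hL (fun l hl => mem_centralizer_singleton_iff.mp hl)
      (mem_centralizer_singleton_iff.mpr (by rw [← map_mul, ← map_mul, zc_central]))
      (mem_centralizer_singleton_iff.mpr rfl) with ⟨g, hg⟩ | hfour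
  · exact absurd (IsConj.symm (isConj_iff.mpr ⟨g, hg.symm⟩)) hfb
  rcases hfour w (mem_centralizer_singleton_iff.mpr hw) with h | h | h | h
  · exact ⟨1, by simp, by rw [h, map_one]⟩
  · exact ⟨zc, by simp, h.symm⟩
  · exact ⟨b, by simp, h.symm⟩
  · exact ⟨zc * b, by simp, by rw [h, map_mul]⟩

omit ha hfa in
theorem card_centralizer_b : Nat.card (centralizer ({C.d b} : Set X)) = 4 := by
  have h : (centralizer ({C.d b} : Set X) : Set X) =
      C.d '' (({1, zc, b, zc * b} : Finset D8) : Set D8) := by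
    ext w
    rw [SetLike.mem_coe, mem_centralizer_singleton_iff]
    constructor
    · intro hw
      obtain ⟨v, hv, hvw⟩ := C.exists_of_commute_b hb hfb hw
      exact ⟨v, hv, hvw⟩
    · rintro ⟨v, hv, rfl⟩
      rw [← map_mul, ← map_mul, comm_of_four b hb v hv]
  rw [← SetLike.coe_sort_coe, Nat.card_coe_set_eq, h, Set.ncard_image_of_injective _ C.inj,
    Set.ncard_coe_finset, four_card b hb]

theorem card_twentyfour : Nat.card X = 24 := by
  have hz2 : C.d zc * C.d zc = 1 := by rw [← map_mul, zc_inv.1, map_one]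
  have hb2 : C.d b * C.d b = 1 := by rw [← map_mul, hb.1, map_one]
  have hinv : ∀ {x : X} {c : D8}, Inv c → IsConj (C.d c) x → x * x = 1 := fun {x c} hc h => by
    rw [← pow_two, ← C.orderOf_d hc, ← C.orderOf_conj h, pow_orderOf_eq_one]
  have hinv' : ∀ {i c : D8}, Inv c → IsConj (C.d c) (C.d i) → Inv i := fun {i c} hc h =>
    C.inv_of_orderOf (by rw [C.orderOf_conj h, C.orderOf_d hc])
  have hb' : Inv b := ⟨hb.1, hb.2.1⟩
  have hall : ∀ t : X, orderOf t = 2 → IsConj (C.d zc) t ∨ IsConj (C.d b) t := by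
    intro t ht
    obtain ⟨g, i, hi, hg⟩ := C.exists_conj_d t ht
    have hc : IsConj (C.d i) t := IsConj.symm (isConj_iff.mpr ⟨g, hg.symm⟩)
    by_cases h : i = zc ∨ i = a ∨ i = zc * a
    · exact Or.inl (((C.isConj_zc_iff ha hb hfa hfb hi).mpr h).trans hc)
    · rw [not_or, not_or] at h
      obtain ⟨hne, hne'⟩ := C.ne_of_unfused ha hb hfa hfb
      refine Or.inr (((C.isConj_b_iff ha hb hfa hfb hi).mpr ?_).trans hc)
      rcases nc_class a b ha hb hne hne' i ⟨hi.1, hi.2, h.1⟩ with h' | h' | h' | h'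
      · exact absurd h' h.2.1
      · exact absurd h' h.2.2
      · exact Or.inl h'
      · exact Or.inr h'
  have hformula := S0213.result (C.d zc) (C.d b) (C.orderOf_d zc_inv) (C.orderOf_d hb')
    hfb hall
  obtain ⟨hne, hne'⟩ := C.ne_of_unfused ha hb hfa hfb
  obtain ⟨hc1, hc2⟩ := pairs_card a b ha hb hne hne'
  have himg : ∀ (Q : Finset (D8 × D8)),
      ((fun q : D8 × D8 => (C.d q.1, C.d q.2)) '' (Q : Set (D8 × D8))).ncard = Q.card := fun Q => by
    rw [Set.ncard_image_of_injective, Set.ncard_coe_finset]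
    intro q q' h
    simp only [Prod.mk.injEq] at h
    exact Prod.ext (C.inj h.1) (C.inj h.2)
  have hn1 : Nat.card {p : X × X // IsConj (C.d zc) p.1 ∧ IsConj (C.d b) p.2 ∧
      C.d zc ∈ zpowers (p.1 * p.2)} = 4 := by
    refine Eq.trans ?_ ((himg _).trans hc1)
    rw [← Nat.card_coe_set_eq]
    refine Nat.card_congr (Equiv.subtypeEquivRight fun p => ?_)
    constructor
    · rintro ⟨h1, h2, h3⟩
      obtain ⟨hu, hv⟩ := commute_of_mem_zpowers (hinv zc_inv h1) (hinv hb' h2) hz2 h3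
      rw [← mem_centralizer_singleton_iff, C.centralizer_zc] at hu hv
      obtain ⟨i, hi⟩ := (C.mem_P _).mp hu
      obtain ⟨j, hj⟩ := (C.mem_P _).mp hv
      rw [← hi] at h1 h3
      rw [← hj] at h2 h3
      rw [← map_mul, ← MonoidHom.map_zpowers, Subgroup.mem_map] at h3
      obtain ⟨c, hc, hc'⟩ := h3
      rw [C.inj hc'] at hc
      refine ⟨(i, j), ?_, Prod.ext hi hj⟩
      simp only [pairsOne, Finset.coe_filter, Finset.mem_univ, true_and, Set.mem_setOf_eq]
      exact ⟨(C.isConj_zc_iff ha hb hfa hfb (hinv' zc_inv h1)).mp h1,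
        (C.isConj_b_iff ha hb hfa hfb (hinv' hb' h2)).mp h2, eq_or_sq_of_mem_zpowers zc_inv hc⟩
    · rintro ⟨⟨i, j⟩, hq, rfl⟩
      simp only [pairsOne, Finset.coe_filter, Finset.mem_univ, true_and, Set.mem_setOf_eq] at hq
      obtain ⟨hi, hj, hw⟩ := hq
      refine ⟨?_, ?_, ?_⟩
      · rcases hi with rfl | rfl | rfl
        · exact IsConj.refl _
        · exact hfa
        · exact C.fused_mul_zc ha hfa
      · refine (C.isConj_b_iff ha hb hfa hfb ?_).mpr hj
        rcases hj with rfl | rfl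
        · exact hb'
        · exact ⟨(nc_mul_zc _ hb).1.1, (nc_mul_zc _ hb).1.2.1⟩
      · rw [← map_mul, ← MonoidHom.map_zpowers]
        exact Subgroup.mem_map_of_mem _ (mem_zpowers_of_eq_or_sq hw)
  have hn2 : Nat.card {p : X × X // IsConj (C.d zc) p.1 ∧ IsConj (C.d b) p.2 ∧
      C.d b ∈ zpowers (p.1 * p.2)} = 1 := by
    refine Eq.trans ?_ ((himg _).trans hc2)
    rw [← Nat.card_coe_set_eq]
    refine Nat.card_congr (Equiv.subtypeEquivRight fun p => ?_)
    constructor
    · rintro ⟨h1, h2, h3⟩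
      obtain ⟨hu, hv⟩ := commute_of_mem_zpowers (hinv zc_inv h1) (hinv hb' h2) hb2 h3
      obtain ⟨i, hi', hi⟩ := C.exists_of_commute_b hb hfb hu
      obtain ⟨j, hj', hj⟩ := C.exists_of_commute_b hb hfb hv
      rw [← hi] at h1 h3
      rw [← hj] at h2 h3
      rw [← map_mul, ← MonoidHom.map_zpowers, Subgroup.mem_map] at h3
      obtain ⟨c, hc, hc'⟩ := h3
      rw [C.inj hc'] at hc
      refine ⟨(i, j), ?_, Prod.ext hi hj⟩
      simp only [pairsTwo, Finset.coe_filter, Finset.mem_univ, true_and, Set.mem_setOf_eq]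
      exact ⟨(C.isConj_zc_iff ha hb hfa hfb (hinv' zc_inv h1)).mp h1,
        (C.isConj_b_iff ha hb hfa hfb (hinv' hb' h2)).mp h2, comm_of_four b hb i hi',
        comm_of_four b hb j hj', eq_or_sq_of_mem_zpowers hb' hc⟩
    · rintro ⟨⟨i, j⟩, hq, rfl⟩
      simp only [pairsTwo, Finset.coe_filter, Finset.mem_univ, true_and, Set.mem_setOf_eq] at hq
      obtain ⟨hi, hj, -, -, hw⟩ := hq
      refine ⟨?_, ?_, ?_⟩
      · rcases hi with rfl | rfl | rfl
        · exact IsConj.refl _
        · exact hfa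
        · exact C.fused_mul_zc ha hfa
      · refine (C.isConj_b_iff ha hb hfa hfb ?_).mpr hj
        rcases hj with rfl | rfl
        · exact hb'
        · exact ⟨(nc_mul_zc _ hb).1.1, (nc_mul_zc _ hb).1.2.1⟩
      · rw [← map_mul, ← MonoidHom.map_zpowers]
        exact Subgroup.mem_map_of_mem _ (mem_zpowers_of_eq_or_sq hw)
  rw [hn1, hn2, C.card_centralizer_b hb hfb, C.centralizer_zc, C.card_P] at hformula
  exact hformula

end two

/-- The centralizer of the central involution is dihedral of order eight. -/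
theorem exists_equiv : Nonempty (centralizer ({C.d zc} : Set X) ≃* D8) := by
  have h : ∀ a, C.d a ∈ centralizer ({C.d zc} : Set X) := fun a => by
    rw [C.centralizer_zc]; exact C.d_mem a
  refine ⟨(MulEquiv.ofBijective (C.d.codRestrict _ h)
    ⟨fun a b hab => C.inj (congrArg Subtype.val hab), fun ⟨x, hx⟩ => ?_⟩).symm⟩
  rw [C.centralizer_zc] at hx
  obtain ⟨a, ha⟩ := (C.mem_P x).mp hx
  exact ⟨a, Subtype.ext ha⟩

theorem no_index_two (hall : ∀ a, Nc a → C.Fused a) (N : Subgroup X) (hN : N.Normal) :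
    N.index ≠ 2 := by
  intro h2
  have hzN : C.d zc ∈ N := by
    have := Subgroup.sq_mem_of_index_two h2 (C.d (DihedralGroup.r 1))
    rwa [pow_two, ← map_mul, sq_eq_zc] at this
  have hinv : ∀ i : D8, i * i = 1 → C.d i ∈ N := by
    intro i hi
    by_cases h1 : i = 1
    · rw [h1, map_one]; exact one_mem N
    by_cases hz : i = zc
    · exact hz ▸ hzN
    obtain ⟨g, hg⟩ := isConj_iff.mp (hall i ⟨hi, h1, hz⟩)
    exact hg ▸ hN.conj_mem _ hzN g
  have hle : (C.P : Subgroup X) ≤ N := fun x hx => by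
    obtain ⟨w, rfl⟩ := (C.mem_P x).mp hx
    obtain ⟨i, j, rfl, hi, hj⟩ := D8_gen_inv w
    rw [map_mul]
    exact mul_mem (hinv i hi) (hinv j hj)
  have := Subgroup.index_dvd_of_le hle
  rw [h2] at this
  exact C.P.not_dvd_index this

theorem card_and_simple (hall : ∀ a, Nc a → C.Fused a) :
    (Nat.card X = 168 ∨ Nat.card X = 360) ∧ IsSimpleGroup X := by
  obtain ⟨e⟩ := C.exists_equiv
  exact ⟨InvChar68.D8.card_eq (C.orderOf_d zc_inv) e (C.no_index_two hall),
    InvChar68.D8.isSimpleGroup (C.orderOf_d zc_inv) e (C.no_index_two hall)⟩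

end XCtx

end Cfsg.Agent.M24Type41
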