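import Cfsg.Agent.M24Type41.XClasses
import Mathlib.GroupTheory.PGroup

/-!
# Linear groups on the group of order 64 with the given dihedral Sylow 2-subgroup

The order divides 168 and every nontrivial element of odd order fixes at most four vectors.
-/

set_option autoImplicit false

namespace Cfsg.Agent.M24Type41

open Subgroup MulAction

theorem unfixed_points : (4 : V) ≠ 40 ∧ (4 : V) ≠ 44 ∧ (40 : V) ≠ 44 ∧ (4 : V) ≠ 0 ∧ (40 : V) ≠ 0 ∧
    (44 : V) ≠ 0 := by decide

namespace XCtx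

variable {X : Subgroup (Equiv.Perm V)} (C : XCtx X)

include C

theorem smul_def' (x : X) (k : V) : x • k = x.1 k := rfl

theorem mem_P_of_normalizes {w : X} (h : ∀ a, ∃ b, C.d b = w * C.d a * w⁻¹) :
    w ∈ (C.P : Subgroup X) := by
  choose f hf using h
  have hfi : Function.Injective f := fun a b hab => C.inj (by
    have := hf a
    rw [hab, hf b] at this
    exact (mul_left_cancel (mul_right_cancel this)).symm)
  have hfs := Finite.injective_iff_surjective.mp hfi
  have hc : f zc = zc := by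
    refine zc_unique _ (C.inv_of_orderOf ?_) fun b => C.inj ?_
    · rw [hf, ← MulAut.conj_apply, MulEquiv.orderOf_eq, C.orderOf_d zc_inv]
    · obtain ⟨a, rfl⟩ := hfs b
      rw [map_mul, map_mul, hf, hf, ← MulAut.conj_apply, ← MulAut.conj_apply, ← map_mul,
        ← map_mul, ← map_mul, ← map_mul, zc_central]
  have := hf zc
  rw [hc, eq_mul_inv_iff_mul_eq] at this
  rw [← C.centralizer_zc, mem_centralizer_singleton_iff]
  exact this.symm

theorem P_le_stabilizer {k : V} (hk : ∀ a, act a k = k) :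
    (C.P : Subgroup X) ≤ stabilizer X k := fun x hx => by
  obtain ⟨a, rfl⟩ := (C.mem_P x).mp hx
  exact (C.spec a k).trans (hk a)

theorem fixed_orbit_eq {k l : V} (hk : ∀ a, act a k = k) (hl : ∀ a, act a l = l)
    (h : l ∈ orbit X k) : l = k := by
  obtain ⟨g, rfl⟩ := h
  have hP : (C.P : Subgroup X) ≤ stabilizer X (g • k) := C.P_le_stabilizer hl
  have hQ : ((g • C.P : Sylow 2 X) : Subgroup X) ≤ stabilizer X (g • k) := by
    intro x hx
    rw [Sylow.coe_subgroup_smul, Subgroup.mem_pointwise_smul_iff_inv_smul_mem] at hx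
    obtain ⟨a, ha⟩ := (C.mem_P _).mp hx
    have hx' : x = g * C.d a * g⁻¹ := by
      rw [ha, MulAut.smul_def, MulAut.inv_apply, ← MulAut.conj_apply]
      exact ((MulAut.conj g).apply_symm_apply x).symm
    rw [mem_stabilizer_iff, hx', mul_smul, inv_smul_smul, mul_smul]
    exact congrArg (g • ·) ((C.spec a k).trans (hk a))
  haveI : Fact (Nat.Prime 2) := ⟨Nat.prime_two⟩
  obtain ⟨h, hh⟩ := MulAction.exists_smul_eq (stabilizer X (g • k))
    ((g • C.P).subtype hQ) (C.P.subtype hP)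
  have hw : (h : X) * g ∈ (C.P : Subgroup X) := by
    refine C.mem_P_of_normalizes fun a => (C.mem_P _).mp ?_
    have hxQ : g * C.d a * g⁻¹ ∈ ((g • C.P : Sylow 2 X) : Subgroup X) :=
      Subgroup.smul_mem_pointwise_smul _ (MulAut.conj g) _ (C.d_mem a)
    have hx : (⟨g * C.d a * g⁻¹, hQ hxQ⟩ : stabilizer X (g • k)) ∈
        (((g • C.P).subtype hQ : Sylow 2 _) : Subgroup (stabilizer X (g • k))) := hxQ
    have h2 := Subgroup.smul_mem_pointwise_smul _ (MulAut.conj h) _ hx
    rw [← Sylow.coe_subgroup_smul] at h2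
    erw [hh] at h2
    have h3 : (h : X) * (g * C.d a * g⁻¹) * (h : X)⁻¹ ∈ (C.P : Subgroup X) := h2
    rw [mul_inv_rev]
    simpa only [mul_assoc] using h3
  have h1 : ((h : X) * g) • k = k := C.P_le_stabilizer hk hw
  rwa [mul_smul, h.2] at h1

theorem stabilizer_c0 : stabilizer X (44 : V) = (C.P : Subgroup X) := by
  refine C.eq_P_of_isolated _ (C.P_le_stabilizer fun a => (fixed_mem a).2.2.2) ?_
  intro h hh a ha hha
  obtain ⟨j, hj⟩ := c0_mem
  refine c0_not_mem a ha ⟨h.1 j, ?_⟩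
  have h44 : h.1 44 = 44 := hh
  have := congrArg (fun x : X => x.1 (h.1 j)) hha
  rw [← C.spec a, ← this]
  show h.1 ((C.d zc).1 ((h⁻¹ : X).1 (h.1 j))) ^^^ h.1 j = 44
  rw [apply_inv_self, C.spec, ← C.lin, hj, h44]

theorem stabilizer_ne_top (hall : ∀ a, Nc a → C.Fused a) {k : V}
    (hk : InV zc k ∧ ∃ a, Nc a ∧ ¬ InV a k) : stabilizer X k ≠ ⊤ := by
  obtain ⟨⟨j, hj⟩, a, ha, hna⟩ := hk
  intro htop
  obtain ⟨g, hg⟩ := isConj_iff.mp (hall a ha)
  refine hna ⟨g.1 j, ?_⟩
  have hgk : g.1 k = k := (htop ▸ Subgroup.mem_top g : g ∈ stabilizer X k)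
  rw [← C.spec a, ← hg]
  show g.1 ((C.d zc).1 ((g⁻¹ : X).1 (g.1 j))) ^^^ g.1 j = k
  rw [apply_inv_self, C.spec, ← C.lin, hj, hgk]

omit C in
theorem card_dvd_factorial_index [IsSimpleGroup X] (H : Subgroup X) (hH : H ≠ ⊤) :
    Nat.card X ∣ H.index.factorial := by
  have hker : H.normalCore = ⊥ := by
    rcases IsSimpleGroup.eq_bot_or_eq_top_of_normal _ (Subgroup.normalCore_normal H) with h | h
    · exact h
    · exact absurd (eq_top_iff.mpr (h ▸ H.normalCore_le)) hH
  rw [Subgroup.normalCore_eq_ker] at hker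
  have := Subgroup.card_dvd_of_injective (MulAction.toPermHom X (X ⧸ H))
    ((MonoidHom.ker_eq_bot_iff _).mp hker)
  rwa [Nat.card_perm] at this

theorem not_360 (hall : ∀ a, Nc a → C.Fused a) (h360 : Nat.card X = 360) : False := by
  haveI := (C.card_and_simple hall).2
  have hidxP : (C.P : Subgroup X).index = 45 := by
    have := (C.P : Subgroup X).index_mul_card
    rw [C.card_P, h360] at this; omega
  have hsize : ∀ H : Subgroup X, (C.P : Subgroup X) ≤ H → H ≠ ⊤ → 15 ≤ H.index := by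
    intro H hle hne
    have hd := Subgroup.index_dvd_of_le hle
    rw [hidxP] at hd
    have hf := card_dvd_factorial_index H hne
    rw [h360] at hf
    have hcard := H.index_mul_card
    rw [h360] at hcard
    have h9 : H.index ≠ 9 := by
      intro h9
      rw [h9] at hcard
      haveI : Fact (Nat.Prime 5) := ⟨by norm_num⟩
      have h40 : Nat.card H = 40 := by omega
      obtain ⟨Q⟩ : Nonempty (Sylow 5 H) := inferInstance
      have hQ : Nat.card (Q : Subgroup H) = 5 := by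
        rw [Q.card_eq_multiplicity, h40, show (40 : ℕ) = 5 ^ 1 * 8 by norm_num,
          Nat.factorization_mul (by norm_num) (by norm_num), Finsupp.coe_add, Pi.add_apply,
          Nat.Prime.factorization_pow (by norm_num), Finsupp.single_eq_same,
          Nat.factorization_eq_zero_of_not_dvd (by norm_num : ¬ 5 ∣ 8)]
        norm_num
      have h8 : (Q : Subgroup H).index = 8 := by
        have := (Q : Subgroup H).index_mul_card
        rw [hQ, h40] at this; omega
      have h1 : Nat.card (Sylow 5 H) = 1 := by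
        have hm : Nat.card (Sylow 5 H) ≡ 1 [MOD 5] := card_sylow_modEq_one 5 H
        have hdvd := h8 ▸ Q.card_dvd_index
        rw [Nat.ModEq] at hm
        have hle8 := Nat.le_of_dvd (by norm_num) hdvd
        interval_cases hn : Nat.card (Sylow 5 H) <;> omega
      haveI : Subsingleton (Sylow 5 H) := (Nat.card_eq_one_iff_unique.mp h1).1
      have hQn := Sylow.normal_of_subsingleton Q
      have hbot := C.odd_normal_eq_bot ((Q : Subgroup H).map H.subtype)
        (by rw [Subgroup.card_map_of_injective H.subtype_injective, hQ]; decide) (by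
          rintro a _ ⟨n, hn, rfl⟩
          exact ⟨⟨C.d a, hle (C.d_mem a)⟩ * n * ⟨C.d a, hle (C.d_mem a)⟩⁻¹,
            hQn.conj_mem n hn _, rfl⟩)
      have : Nat.card ((Q : Subgroup H).map H.subtype) = Nat.card (Q : Subgroup H) :=
        Subgroup.card_map_of_injective H.subtype_injective
      rw [hbot, hQ, Subgroup.card_bot] at this
      omega
    by_contra hlt
    push_neg at hlt
    have h0 : H.index ≠ 0 := Subgroup.index_ne_zero_of_finite
    interval_cases hi : H.index <;> revert hd hf <;> norm_num [Nat.factorial] <;> omega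
  obtain ⟨hn1, hn2, hn3, -⟩ := unfixed_points
  have hf4 : ∀ a, act a (4 : V) = 4 := fun a => (fixed_mem a).2.1
  have hf40 : ∀ a, act a (40 : V) = 40 := fun a => (fixed_mem a).2.2.1
  have hf44 : ∀ a, act a (44 : V) = 44 := fun a => (fixed_mem a).2.2.2
  have h4 := hsize _ (C.P_le_stabilizer hf4) (C.stabilizer_ne_top hall ⟨c_mem.1, c_not_mem.1⟩)
  have h40 := hsize _ (C.P_le_stabilizer hf40) (C.stabilizer_ne_top hall ⟨c_mem.2, c_not_mem.2⟩)
  have h44 : (stabilizer X (44 : V)).index = 45 := by rw [C.stabilizer_c0, hidxP]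
  rw [index_stabilizer] at h4 h40 h44
  have hdis : ∀ k l : V, (∀ a, act a k = k) → (∀ a, act a l = l) → k ≠ l →
      Disjoint (orbit X k) (orbit X l) := by
    intro k l hk hl hkl
    rw [Set.disjoint_left]
    intro x hxk hxl
    apply hkl
    refine (C.fixed_orbit_eq hk hl ?_).symm
    rw [← orbit_eq_iff.mpr hxk, orbit_eq_iff.mpr hxl]
    exact mem_orbit_self l
  have hu : (orbit X (4 : V) ∪ orbit X 40 ∪ orbit X 44).ncard ≤ 64 := by
    refine (Set.ncard_le_ncard (Set.subset_univ _) Set.finite_univ).trans ?_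
    rw [Set.ncard_univ, Nat.card_fin]
  rw [Set.ncard_union_eq (Set.disjoint_union_left.mpr ⟨hdis _ _ hf4 hf44 hn2,
      hdis _ _ hf40 hf44 hn3⟩) (Set.toFinite _) (Set.toFinite _),
    Set.ncard_union_eq (hdis _ _ hf4 hf40 hn1) (Set.toFinite _) (Set.toFinite _)] at hu
  omega

theorem cases_card : Nat.card X = 8 ∨ ((∃ a, Nc a ∧ C.Fused a) ∧
    (Nat.card X = 24 ∨ ((∀ a, Nc a → C.Fused a) ∧ Nat.card X = 168))) := by
  classical
  by_cases h : ∀ a, Nc a → ¬ C.Fused a
  · exact Or.inl (C.card_eight h)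
  push_neg at h
  obtain ⟨a, ha, hfa⟩ := h
  refine Or.inr ⟨⟨a, ha, hfa⟩, ?_⟩
  by_cases hall : ∀ b, Nc b → C.Fused b
  · exact Or.inr ⟨hall, (C.card_and_simple hall).1.resolve_right (C.not_360 hall)⟩
  push_neg at hall
  obtain ⟨b, hb, hfb⟩ := hall
  exact Or.inl (C.card_twentyfour ha hb hfa hfb)

theorem exists_order_three {a : D8} (ha : Nc a) (hfa : C.Fused a) :
    ∃ y : X, orderOf y = 3 ∧ y * C.d zc * y⁻¹ = C.d a ∧ y * C.d a * y⁻¹ = C.d (zc * a) := by
  obtain ⟨e, he⟩ := nc_conj a ha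
  obtain ⟨g, hg⟩ := isConj_iff.mp hfa
  have hp1 : C.d e * C.d zc * (C.d e)⁻¹ = C.d zc := by
    rw [← map_inv, ← map_mul, ← map_mul, ← zc_central, mul_inv_cancel_right]
  have hp2 : C.d e * C.d a * (C.d e)⁻¹ = C.d (zc * a) := by
    rw [← map_inv, ← map_mul, ← map_mul, he]
  obtain ⟨v, hv⟩ : ∃ v, g * C.d v * g⁻¹ * C.d zc * (g * C.d v * g⁻¹)⁻¹ ≠ C.d zc := by
    by_contra hall
    push_neg at hall
    have hgP : g ∈ (C.P : Subgroup X) := C.mem_P_of_normalizes fun v => (C.mem_P _).mp (by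
      rw [← C.centralizer_zc, mem_centralizer_singleton_iff]
      exact mul_inv_eq_iff_eq_mul.mp (hall v))
    rw [← C.centralizer_zc, mem_centralizer_singleton_iff] at hgP
    rw [hgP, mul_inv_cancel_right] at hg
    exact ha.2.2 (C.inj hg).symm
  set q := g * C.d v * g⁻¹ with hq
  have hq2 : q * C.d a * q⁻¹ = C.d a := by
    rw [hq, ← hg, show g * C.d v * g⁻¹ * (g * C.d zc * g⁻¹) * (g * C.d v * g⁻¹)⁻¹ =
      g * (C.d v * C.d zc * (C.d v)⁻¹) * g⁻¹ by group, ← map_inv, ← map_mul, ← map_mul,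
      ← zc_central, mul_inv_cancel_right]
  have hq1 : q * C.d zc * q⁻¹ = C.d (zc * a) := by
    obtain ⟨u, hu⟩ : ∃ u, C.d u = g⁻¹ * C.d zc * g := by
      apply (C.mem_P _).mp
      rw [← C.centralizer_zc, mem_centralizer_singleton_iff]
      have hc : C.d zc * C.d a = C.d a * C.d zc := by rw [← map_mul, ← map_mul, zc_central]
      rw [← hg] at hc
      calc g⁻¹ * C.d zc * g * C.d zc = g⁻¹ * (C.d zc * (g * C.d zc * g⁻¹)) * g := by group
        _ = g⁻¹ * ((g * C.d zc * g⁻¹) * C.d zc) * g := by rw [hc]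
        _ = C.d zc * (g⁻¹ * C.d zc * g) := by group
    have hui : Inv u := C.inv_of_orderOf (by
      rw [hu]
      exact (MulEquiv.orderOf_eq (MulAut.conj g).symm (C.d zc)).trans (C.orderOf_d zc_inv))
    have hz : C.d zc = g * C.d u * g⁻¹ := by rw [hu]; group
    have hcalc : q * C.d zc * q⁻¹ = g * C.d (v * u * v⁻¹) * g⁻¹ := by
      rw [hq, hz, map_mul, map_mul, map_inv]; group
    rcases conj_four u v hui with h | h <;> rw [h] at hcalc
    · exact absurd (hcalc.trans hz.symm) hv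
    · rw [hcalc, map_mul, show g * (C.d zc * C.d u) * g⁻¹ =
        (g * C.d zc * g⁻¹) * (g * C.d u * g⁻¹) by group, hg, ← hz, ← map_mul, ← zc_central]
  set w := C.d e * q with hw
  have hwz : w * C.d zc * w⁻¹ = C.d a := by
    rw [hw, show C.d e * q * C.d zc * (C.d e * q)⁻¹ = C.d e * (q * C.d zc * q⁻¹) * (C.d e)⁻¹ by group,
      hq1, map_mul, show C.d e * (C.d zc * C.d a) * (C.d e)⁻¹ =
        (C.d e * C.d zc * (C.d e)⁻¹) * (C.d e * C.d a * (C.d e)⁻¹) by group,
      hp1, hp2, ← map_mul, (nc_mul_zc a ha).2]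
  have hwa : w * C.d a * w⁻¹ = C.d (zc * a) := by
    rw [hw, show C.d e * q * C.d a * (C.d e * q)⁻¹ = C.d e * (q * C.d a * q⁻¹) * (C.d e)⁻¹ by group,
      hq2, hp2]
  have hwza : w * C.d (zc * a) * w⁻¹ = C.d zc := by
    rw [map_mul, show w * (C.d zc * C.d a) * w⁻¹ = (w * C.d zc * w⁻¹) * (w * C.d a * w⁻¹) by group,
      hwz, hwa, ← map_mul, ← mul_assoc, ← zc_central, mul_assoc, ha.1, mul_one]
  have h3 : w ^ 3 * C.d zc * (w ^ 3)⁻¹ = C.d zc := by
    rw [show w ^ 3 * C.d zc * (w ^ 3)⁻¹ = w * (w * (w * C.d zc * w⁻¹) * w⁻¹) * w⁻¹ by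
      rw [pow_succ, pow_two]; group, hwz, hwa, hwza]
  have h12 : w ^ 12 = 1 := by
    have hmem : w ^ 3 ∈ (C.P : Subgroup X) := by
      rw [← C.centralizer_zc, mem_centralizer_singleton_iff]
      exact mul_inv_eq_iff_eq_mul.mp h3
    obtain ⟨c, hc⟩ := (C.mem_P _).mp hmem
    rw [show 12 = 3 * 4 by norm_num, pow_mul, ← hc, ← map_pow, pow_four_eq, map_one]
  have h4 : ∀ x : X, w ^ 4 * x * (w ^ 4)⁻¹ = w * (w ^ 3 * x * (w ^ 3)⁻¹) * w⁻¹ := fun x => by
    rw [pow_succ' w 3]; group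
  have h3a : w ^ 3 * C.d a * (w ^ 3)⁻¹ = C.d a := by
    rw [show w ^ 3 * C.d a * (w ^ 3)⁻¹ = w * (w * (w * C.d a * w⁻¹) * w⁻¹) * w⁻¹ by
      rw [pow_succ, pow_two]; group, hwa, hwza, hwz]
  refine ⟨w ^ 4, orderOf_eq_prime ?_ ?_, ?_, ?_⟩
  · rw [← pow_mul]; exact h12
  · intro h1
    have := h4 (C.d zc)
    rw [h1, h3, hwz, one_mul, inv_one, mul_one] at this
    exact ha.2.2 (C.inj this).symm
  · rw [h4, h3, hwz]
  · rw [h4, h3a, hwa]

theorem card_fix_order_three {a : D8} (ha : Nc a) {y : X} (hy : orderOf y = 3)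
    (hz : y * C.d zc * y⁻¹ = C.d a) (hya : y * C.d a * y⁻¹ = C.d (zc * a)) :
    Nat.card {k : V // y.1 k = k} ≤ 4 := by
  rw [mul_inv_eq_iff_eq_mul] at hz hya
  have hai : Inv a := ⟨ha.1, ha.2.1⟩
  have hzy : ∀ k, y.1 (act zc k) = act a (y.1 k) := fun k => by
    rw [← C.spec, ← C.spec]; exact congrArg (fun g : X => g.1 k) hz
  have hay : ∀ k, y.1 (act a k) = act (zc * a) (y.1 k) := fun k => by
    rw [← C.spec, ← C.spec]; exact congrArg (fun g : X => g.1 k) hya
  let W : Set V := {k | act zc k = k ∧ act a k = k}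
  have hWy : ∀ k ∈ W, y.1 k ∈ W := by
    rintro k ⟨h1, h2⟩
    have e1 : act a (y.1 k) = y.1 k := by rw [← hzy, h1]
    have e2 : act (zc * a) (y.1 k) = y.1 k := by rw [← hay, h2]
    refine ⟨?_, e1⟩
    rw [act_mul, e1] at e2
    exact e2
  have hWadd : ∀ i ∈ W, ∀ j ∈ W, i ^^^ j ∈ W := fun i hi j hj =>
    ⟨by rw [act_xor, hi.1, hj.1], by rw [act_xor, hi.2, hj.2]⟩
  have hVW : ∀ k, act zc k ^^^ k ∈ W := fun k =>
    ⟨layer_V zc zc zc_inv rfl k, layer_V zc a zc_inv (zc_central a) k⟩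
  have h3 : ∀ k, y.1 (y.1 (y.1 k)) = k := fun k => by
    have h : y ^ 3 = 1 := hy ▸ pow_orderOf_eq_one y
    exact congrArg (fun g : X => g.1 k) ((show y * (y * y) = y ^ 3 by rw [pow_succ, pow_two, mul_assoc]).trans h)
  have hodd : Odd (orderOf y) := hy ▸ by decide
  obtain ⟨k₁, hk₁, hk₁'⟩ : ∃ k ∈ W, y.1 k ≠ k := by
    by_contra hall
    push_neg at hall
    obtain ⟨k, hk⟩ := V_ne a ha
    refine hk ⟨y.1 k, ?_⟩
    rw [← hzy, ← C.lin, hall _ (hVW k)]
  obtain ⟨k₂, hk₂⟩ : ∃ k, y.1 k ^^^ k ∉ W := by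
    by_contra hall
    push_neg at hall
    obtain ⟨k, hk, hk'⟩ := fix_ne a ha
    have h := (hall k).2
    rw [act_xor, ← hzy, hk] at h
    apply hk'
    calc act a k = (y.1 k) ^^^ ((y.1 k) ^^^ act a k) := (vxor_cancel _ _).symm
      _ = k := by rw [h, vxor_cancel]
  let f : V → Fin 4 → V := fun u => ![0, u, y.1 u, y.1 (y.1 u)]
  let I : Set V := Set.range fun k => y.1 k ^^^ k
  have hIadd : ∀ i ∈ I, ∀ j ∈ I, i ^^^ j ∈ I := by
    rintro _ ⟨i, rfl⟩ _ ⟨j, rfl⟩
    exact ⟨i ^^^ j, by show y.1 (i ^^^ j) ^^^ (i ^^^ j) = _; rw [C.lin, vxor_swap]⟩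
  have hI0 : (0 : V) ∈ I := ⟨0, by
    show y.1 0 ^^^ 0 = 0; rw [C.map_zero', (vxor_self 0).1]⟩
  have hIy : ∀ i ∈ I, y.1 i ∈ I := by
    rintro _ ⟨i, rfl⟩
    exact ⟨y.1 i, (C.lin y (y.1 i) i).symm⟩
  have hIf : ∀ u ∈ I, ∀ i, f u i ∈ I := by
    intro u hu i
    fin_cases i
    · exact hI0
    · exact hu
    · exact hIy _ hu
    · exact hIy _ (hIy _ hu)
  have hrel : ∀ u ∈ I, y.1 (y.1 u) = u ^^^ y.1 u := by
    rintro _ ⟨k, rfl⟩
    simp only
    rw [C.lin, C.lin, h3, vxor_comm (y.1 k ^^^ k), vxor_mid, vxor_comm]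
  have hfW : ∀ u ∈ I, (∃ i, i ≠ 0 ∧ f u i ∈ W) → u ∈ W := by
    rintro u - ⟨i, hi, hiW⟩
    fin_cases i
    · exact absurd rfl hi
    · exact hiW
    · have h := hWy _ (hWy _ hiW)
      change y.1 (y.1 (y.1 u)) ∈ W at h
      rwa [h3] at h
    · have h := hWy _ hiW
      change y.1 (y.1 (y.1 u)) ∈ W at h
      rwa [h3] at h
  have hfadd : ∀ u ∈ I, ∀ i j, i ≠ j → ∃ l, l ≠ 0 ∧ f u i ^^^ f u j = f u l := by
    intro u hu i j hij
    have r1 : u ^^^ y.1 u = y.1 (y.1 u) := (hrel u hu).symm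
    have r2 : y.1 u ^^^ y.1 (y.1 u) = u := by rw [hrel u hu, vxor_comm u, vxor_cancel]
    have r3 : u ^^^ y.1 (y.1 u) = y.1 u := by rw [hrel u hu, vxor_cancel]
    have z : ∀ v : V, 0 ^^^ v = v ∧ v ^^^ 0 = v := fun v => ⟨(vxor_self v).2.2, (vxor_self v).2.1⟩
    fin_cases i <;> fin_cases j <;> first
      | exact absurd rfl hij
      | exact ⟨1, by decide, (z _).1⟩ | exact ⟨2, by decide, (z _).1⟩ | exact ⟨3, by decide, (z _).1⟩
      | exact ⟨1, by decide, (z _).2⟩ | exact ⟨2, by decide, (z _).2⟩ | exact ⟨3, by decide, (z _).2⟩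
      | exact ⟨3, by decide, r1⟩ | exact ⟨3, by decide, (vxor_comm _ _).trans r1⟩
      | exact ⟨1, by decide, r2⟩ | exact ⟨1, by decide, (vxor_comm _ _).trans r2⟩
      | exact ⟨2, by decide, r3⟩ | exact ⟨2, by decide, (vxor_comm _ _).trans r3⟩
  set u₁ := y.1 k₁ ^^^ k₁ with hu₁
  set u₂ := y.1 k₂ ^^^ k₂ with hu₂
  have hu₁I : u₁ ∈ I := ⟨k₁, rfl⟩
  have hu₂I : u₂ ∈ I := ⟨k₂, rfl⟩
  have hu₁W : u₁ ∈ W := hWadd _ (hWy _ hk₁) _ hk₁
  have hu₁0 : u₁ ≠ 0 := fun h => hk₁' ((vxor_eq_zero _ _).mp h)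
  have hfWall : ∀ i, f u₁ i ∈ W := by
    intro i
    fin_cases i
    · exact ⟨(congrArg (fun v => v) (fixed_mem zc).1), (fixed_mem a).1⟩
    · exact hu₁W
    · exact hWy _ hu₁W
    · exact hWy _ (hWy _ hu₁W)
  let Φ : {k : V // y.1 k = k} × (Fin 4 × Fin 4) → V := fun p =>
    p.1.1 ^^^ (f u₁ p.2.1 ^^^ f u₂ p.2.2)
  have hΦ : Function.Injective Φ := by
    rintro ⟨⟨k, hk⟩, i, j⟩ ⟨⟨k', hk'⟩, i', j'⟩ h
    simp only [Φ] at h
    have h' : k ^^^ k' = (f u₁ i ^^^ f u₂ j) ^^^ (f u₁ i' ^^^ f u₂ j') := by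
      have := congrArg (fun v => (v ^^^ (f u₁ i ^^^ f u₂ j)) ^^^ k') h
      simp only [vxor_cancel'] at this
      rw [this, vxor_comm _ k', ← vxor_assoc, vxor_cancel, vxor_comm]
    have hkk : k ^^^ k' = 0 := by
      have hkI : k ^^^ k' ∈ I := h' ▸ hIadd _ (hIadd _ (hIf _ hu₁I i) _ (hIf _ hu₂I j)) _
        (hIadd _ (hIf _ hu₁I i') _ (hIf _ hu₂I j'))
      obtain ⟨m, hm⟩ := hkI
      have hm' : y.1 m = m := by
        refine C.fix_of_fix_diff hodd ?_
        simp only at hm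
        rw [hm, C.lin, hk, hk']
      rw [← hm]
      exact (vxor_eq_zero _ _).mpr hm'
    have hkeq : k = k' := (vxor_eq_zero _ _).mp hkk
    rw [hkk, vxor_swap] at h'
    have hff := (vxor_eq_zero _ _).mp h'.symm
    have hj : j = j' := by
      by_contra hne
      obtain ⟨l, hl, hl'⟩ := hfadd _ hu₂I j j' hne
      exact hk₂ (hfW _ hu₂I ⟨l, hl, by rw [← hl', ← hff]; exact hWadd _ (hfWall i) _ (hfWall i')⟩)
    have hi : i = i' := by
      by_contra hne
      obtain ⟨l, hl, hl'⟩ := hfadd _ hu₁I i i' hne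
      rw [hl', hj, (vxor_self _).1] at hff
      have hu0 : u₁ = 0 := by
        have := C.map_zero' y
        fin_cases l
        · exact absurd rfl hl
        · exact hff
        · exact y.1.injective (hff.trans this.symm)
        · refine y.1.injective (y.1.injective ?_)
          rw [this, this]; exact hff
      exact hu₁0 hu0
    subst hi hj hkeq
    rfl
  have := Nat.card_le_card_of_injective Φ hΦ
  rw [Nat.card_prod, Nat.card_prod, Nat.card_fin, Nat.card_fin] at this
  omega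

omit C in
theorem card_fix_conj (g y : X) :
    Nat.card {k : V // (g * y * g⁻¹).1 k = k} = Nat.card {k : V // y.1 k = k} := by
  refine (Nat.card_congr ((g.1).subtypeEquiv fun k => ?_)).symm
  show y.1 k = k ↔ g.1 (y.1 ((g⁻¹ : X).1 (g.1 k))) = g.1 k
  rw [apply_inv_self, g.1.injective.eq_iff]

omit C in
theorem card_fix_pow_le (y : X) (n : ℕ) :
    Nat.card {k : V // y.1 k = k} ≤ Nat.card {k : V // (y ^ n).1 k = k} := by
  refine Nat.card_le_card_of_injective (fun k => ⟨k.1, ?_⟩) fun k l h =>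
    Subtype.ext (congrArg Subtype.val h :)
  have : y ^ n ∈ stabilizer X k.1 := pow_mem (mem_stabilizer_iff.mpr k.2) n
  exact this

theorem card_fix_three {σ : X} (h : orderOf σ = 3) : Nat.card {k : V // σ.1 k = k} ≤ 4 := by
  haveI : Fact (Nat.Prime 3) := ⟨Nat.prime_three⟩
  have h8 : Nat.card X ≠ 8 := fun h8 => by
    have := orderOf_dvd_natCard σ
    rw [h, h8] at this; omega
  obtain ⟨⟨a, ha, hfa⟩, hc⟩ := C.cases_card.resolve_left h8
  obtain ⟨y, hy, h1, h2⟩ := C.exists_order_three ha hfa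
  have hfac : (Nat.card X).factorization 3 = 1 := by
    rcases hc with hc | ⟨-, hc⟩
    · rw [hc, show (24 : ℕ) = 3 ^ 1 * 8 by norm_num, Nat.factorization_mul (by norm_num) (by norm_num),
        Finsupp.coe_add, Pi.add_apply, Nat.Prime.factorization_pow Nat.prime_three,
        Finsupp.single_eq_same, Nat.factorization_eq_zero_of_not_dvd (by norm_num : ¬ 3 ∣ 8)]
    · rw [hc, show (168 : ℕ) = 3 ^ 1 * 56 by norm_num,
        Nat.factorization_mul (by norm_num) (by norm_num),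
        Finsupp.coe_add, Pi.add_apply, Nat.Prime.factorization_pow Nat.prime_three,
        Finsupp.single_eq_same, Nat.factorization_eq_zero_of_not_dvd (by norm_num : ¬ 3 ∣ 56)]
  let S : Sylow 3 X := Sylow.ofCard (zpowers σ) (by rw [Nat.card_zpowers, h, hfac, pow_one])
  let S' : Sylow 3 X := Sylow.ofCard (zpowers y) (by rw [Nat.card_zpowers, hy, hfac, pow_one])
  obtain ⟨g, hg⟩ := MulAction.exists_smul_eq X S S'
  have hmem : g * σ * g⁻¹ ∈ zpowers y := by
    have h0 := Subgroup.smul_mem_pointwise_smul σ (MulAut.conj g) (S : Subgroup X) (mem_zpowers σ)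
    rw [← Sylow.coe_subgroup_smul, hg] at h0
    exact h0
  rw [← mem_powers_iff_mem_zpowers, Submonoid.mem_powers_iff] at hmem
  obtain ⟨n, hn⟩ := hmem
  have hord : orderOf (g * σ * g⁻¹) = 3 := by rw [← MulAut.conj_apply, MulEquiv.orderOf_eq, h]
  have hcop : Nat.Coprime n (orderOf y) := by
    rw [hy]
    refine ((Nat.prime_three.coprime_iff_not_dvd).mpr fun hd => ?_).symm
    obtain ⟨m, rfl⟩ := hd
    rw [pow_mul, ← hy, pow_orderOf_eq_one, one_pow] at hn
    rw [← hn, orderOf_one] at hord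
    omega
  obtain ⟨m, hm⟩ := exists_pow_eq_self_of_coprime (x := y) hcop
  calc Nat.card {k : V // σ.1 k = k} = Nat.card {k : V // (g * σ * g⁻¹).1 k = k} :=
        (card_fix_conj g σ).symm
    _ ≤ Nat.card {k : V // ((g * σ * g⁻¹) ^ m).1 k = k} := card_fix_pow_le _ _
    _ ≤ 4 := by rw [← hn, hm]; exact C.card_fix_order_three ha hy h1 h2

theorem card_fix_seven {σ : X} (h : orderOf σ = 7) : Nat.card {k : V // σ.1 k = k} ≤ 4 := by
  haveI : Fact (Nat.Prime 7) := ⟨by norm_num⟩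
  obtain ⟨hall, h168⟩ : (∀ a, Nc a → C.Fused a) ∧ Nat.card X = 168 := by
    have hd := orderOf_dvd_natCard σ
    rw [h] at hd
    rcases C.cases_card with h8 | ⟨-, h24 | h'⟩
    · rw [h8] at hd; omega
    · rw [h24] at hd; omega
    · exact h'
  haveI := (C.card_and_simple hall).2
  by_contra hgt
  push_neg at hgt
  let F : Sylow 7 X → Set V := fun Q => {k | k ≠ 0 ∧ ∀ x ∈ (Q : Subgroup X), x • k = k}
  have hfac : 7 ^ (Nat.card X).factorization 7 = 7 := by
    rw [h168, show (168 : ℕ) = 7 ^ 1 * 24 by norm_num,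
      Nat.factorization_mul (by norm_num) (by norm_num),
      Finsupp.coe_add, Pi.add_apply, Nat.Prime.factorization_pow (by norm_num),
      Finsupp.single_eq_same, Nat.factorization_eq_zero_of_not_dvd (by norm_num : ¬ 7 ∣ 24)]
    norm_num
  have hQ7 : ∀ Q : Sylow 7 X, Nat.card (Q : Subgroup X) = 7 := fun Q =>
    Q.card_eq_multiplicity.trans hfac
  let S : Sylow 7 X := Sylow.ofCard (zpowers σ) (by rw [Nat.card_zpowers, h, hfac])
  have hSF : ∀ k, σ.1 k = k → ∀ x ∈ (S : Subgroup X), x • k = k := fun k hk x hx => by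
    have hle : zpowers σ ≤ stabilizer X k := zpowers_le.mpr hk
    exact hle hx
  have hfix : MulAction.fixedPoints (zpowers σ) V = {k : V | σ.1 k = k} := by
    ext k
    exact ⟨fun hk => hk ⟨σ, mem_zpowers σ⟩, fun hk x => hSF k hk x.1 x.2⟩
  have hmod := (IsPGroup.of_card (p := 7) (n := 1) (G := zpowers σ) (by
    rw [Nat.card_zpowers, h, pow_one])).card_modEq_card_fixedPoints V
  rw [hfix, Nat.card_fin] at hmod
  have h8 : 8 ≤ Nat.card {k : V // σ.1 k = k} := by
    have : Nat.card {k : V // σ.1 k = k} % 7 = 1 := by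
      rw [Nat.ModEq] at hmod; exact hmod.symm
    omega
  have hFS : 7 ≤ (F S).ncard := by
    have : {k : V | σ.1 k = k} ⊆ insert 0 (F S) := fun k hk => by
      by_cases h0 : k = 0
      · exact Or.inl h0
      · exact Or.inr ⟨h0, hSF k hk⟩
    have := (Set.ncard_le_ncard this (Set.toFinite _)).trans (Set.ncard_insert_le _ _)
    rw [← Nat.card_coe_set_eq] at this
    have h8' : 8 ≤ Nat.card ↑{k : V | σ.1 k = k} := h8
    omega
  have hFall : ∀ Q : Sylow 7 X, 7 ≤ (F Q).ncard := by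
    intro Q
    obtain ⟨g, rfl⟩ := MulAction.exists_smul_eq X S Q
    refine hFS.trans (le_of_eq_of_le (Set.ncard_image_of_injective (F S) g.1.injective).symm
      (Set.ncard_le_ncard ?_ (Set.toFinite _)))
    rintro _ ⟨k, ⟨hk0, hk⟩, rfl⟩
    refine ⟨fun h0 => hk0 (g.1.injective (h0.trans (C.map_zero' g).symm)), fun x hx => ?_⟩
    rw [Sylow.coe_subgroup_smul, Subgroup.mem_pointwise_smul_iff_inv_smul_mem] at hx
    have h1 := hk _ hx
    rw [MulAut.smul_def, ← map_inv, MulAut.conj_apply, inv_inv, mul_smul, mul_smul,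
      inv_smul_eq_iff] at h1
    exact h1
  have hidxP : (C.P : Subgroup X).index = 21 := by
    have := (C.P : Subgroup X).index_mul_card
    rw [C.card_P, h168] at this; omega
  have hP : ∀ k, k ∈ orbit X (44 : V) → Nat.card (stabilizer X k) = 8 := by
    intro k hk
    have := (stabilizer X k).index_mul_card
    rw [index_stabilizer, orbit_eq_iff.mpr hk, ← index_stabilizer, C.stabilizer_c0, hidxP,
      h168] at this
    omega
  have hdis : ∀ Q : Sylow 7 X, Disjoint (F Q) (orbit X (44 : V)) := by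
    intro Q
    rw [Set.disjoint_left]
    intro k hk hko
    have hle : (Q : Subgroup X) ≤ stabilizer X k := fun x hx => hk.2 x hx
    have hd := Subgroup.card_dvd_of_le hle
    rw [hP k hko] at hd
    rw [hQ7] at hd
    omega
  have hpair : Pairwise fun Q R : Sylow 7 X => Disjoint (F Q) (F R) := by
    intro Q R hQR
    rw [Set.disjoint_left]
    intro k hQ hR
    apply hQR
    have hleQ : (Q : Subgroup X) ≤ stabilizer X k := fun x hx => hQ.2 x hx
    have hleR : (R : Subgroup X) ≤ stabilizer X k := fun x hx => hR.2 x hx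
    have hne : stabilizer X k ≠ ⊤ := by
      intro htop
      have hfixD : ∀ a, act a k = k := fun a => by
        rw [← C.spec]
        exact (htop ▸ Subgroup.mem_top (C.d a) : C.d a ∈ stabilizer X k)
      rcases fixed_all k hfixD with h | h | h | h
      · exact hQ.1 h
      · exact C.stabilizer_ne_top hall ⟨c_mem.1, c_not_mem.1⟩ (h ▸ htop)
      · exact C.stabilizer_ne_top hall ⟨c_mem.2, c_not_mem.2⟩ (h ▸ htop)
      · rw [h, C.stabilizer_c0] at htop
        rw [htop, Subgroup.index_top] at hidxP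
        omega
    have hf := card_dvd_factorial_index _ hne
    have hcard := (stabilizer X k).index_mul_card
    rw [h168] at hf hcard
    have h7 : 7 ≤ (stabilizer X k).index := by
      by_contra hlt
      push_neg at hlt
      have h0 : (stabilizer X k).index ≠ 0 := Subgroup.index_ne_zero_of_finite
      interval_cases hi : (stabilizer X k).index <;> revert hf <;> norm_num [Nat.factorial]
    set H := stabilizer X k with hH
    have hn : Nat.card (Sylow 7 H) = 1 := by
      have hle24 : Nat.card H ≤ 24 := by nlinarith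
      let Q' : Sylow 7 H := Q.subtype hleQ
      have hdvd := Q'.card_dvd_index
      have hm : Nat.card (Sylow 7 H) ≡ 1 [MOD 7] := card_sylow_modEq_one 7 H
      have hQc : Nat.card (Q' : Subgroup H) = 7 := by
        rw [Sylow.coe_subtype, Nat.card_congr (Subgroup.subgroupOfEquivOfLe hleQ).toEquiv, hQ7]
      have hQi := (Q' : Subgroup H).index_mul_card
      rw [hQc] at hQi
      have h0 : (Q' : Subgroup H).index ≠ 0 := Subgroup.index_ne_zero_of_finite
      have hle3 := Nat.le_of_dvd (Nat.pos_of_ne_zero h0) hdvd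
      rw [Nat.ModEq] at hm
      omega
    haveI : Subsingleton (Sylow 7 H) := (Nat.card_eq_one_iff_unique.mp hn).1
    exact Sylow.subtype_injective (hP := hleQ) (hQ := hleR) (Subsingleton.elim _ _)
  have hn8 : 8 ≤ Nat.card (Sylow 7 X) := by
    have hm : Nat.card (Sylow 7 X) ≡ 1 [MOD 7] := card_sylow_modEq_one 7 X
    have h1 : Nat.card (Sylow 7 X) ≠ 1 := by
      intro h1
      haveI : Subsingleton (Sylow 7 X) := (Nat.card_eq_one_iff_unique.mp h1).1
      have hn := Sylow.normal_of_subsingleton S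
      have hc : Nat.card (zpowers σ) = 7 := by rw [Nat.card_zpowers, h]
      rcases IsSimpleGroup.eq_bot_or_eq_top_of_normal (zpowers σ) hn with hb | ht
      · rw [hb, Subgroup.card_bot] at hc; omega
      · rw [ht, Subgroup.card_top, h168] at hc; omega
    have h0 : 0 < Nat.card (Sylow 7 X) := Nat.card_pos
    rw [Nat.ModEq] at hm
    omega
  haveI := Fintype.ofFinite (Sylow 7 X)
  have hU : (⋃ Q, F Q).ncard = ∑ Q, (F Q).ncard := by
    rw [Set.ncard_iUnion_of_finite (fun Q => Set.toFinite _) hpair, finsum_eq_sum_of_fintype]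
  have hsum : 56 ≤ ∑ Q : Sylow 7 X, (F Q).ncard := by
    refine le_trans ?_ (Finset.card_nsmul_le_sum _ _ _ fun Q _ => hFall Q)
    rw [Finset.card_univ, ← Nat.card_eq_fintype_card, smul_eq_mul]
    omega
  have hall64 : ((⋃ Q, F Q) ∪ orbit X (44 : V)).ncard ≤ 64 := by
    refine (Set.ncard_le_ncard (Set.subset_univ _) Set.finite_univ).trans ?_
    rw [Set.ncard_univ, Nat.card_fin]
  rw [Set.ncard_union_eq (Set.disjoint_iUnion_left.mpr hdis) (Set.toFinite _) (Set.toFinite _),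
    hU, ← index_stabilizer, C.stabilizer_c0, hidxP] at hall64
  omega

end XCtx

variable {X : Subgroup (Equiv.Perm V)}

theorem XHyp.card_dvd (hX : XHyp X) : Nat.card X ∣ 168 := by
  obtain ⟨C⟩ := hX.exists_ctx
  rcases C.cases_card with h | ⟨-, h | ⟨-, h⟩⟩ <;> rw [h] <;> norm_num

theorem XHyp.card_fix_le (hX : XHyp X) : ∀ σ ∈ X, σ ≠ 1 → Odd (orderOf σ) →
    Nat.card {k : V // σ k = k} ≤ 4 := by
  obtain ⟨C⟩ := hX.exists_ctx
  intro σ hσ h1 hodd
  set s : X := ⟨σ, hσ⟩ with hs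
  have hso : orderOf s = orderOf σ := (Subgroup.orderOf_coe s).symm
  have hne : orderOf s ≠ 1 := fun h => h1 (congrArg Subtype.val (orderOf_eq_one_iff.mp h))
  obtain ⟨p, hp, hpd⟩ := Nat.exists_prime_and_dvd hne
  have hp2 : p ≠ 2 := by
    rintro rfl
    rw [hso] at hpd
    exact hodd.not_two_dvd_nat hpd
  have hord : orderOf (s ^ (orderOf s / p)) = p :=
    orderOf_pow_orderOf_div (orderOf_pos s).ne' hpd
  have hdvd : p ∣ 168 := (hpd.trans (orderOf_dvd_natCard s)).trans hX.card_dvd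
  have hp7 : p = 3 ∨ p = 7 := by
    have h : p ∣ 2 ^ 3 * (3 * 7) := by norm_num; exact hdvd
    rcases hp.dvd_mul.mp h with h | h
    · exact absurd ((Nat.prime_dvd_prime_iff_eq hp Nat.prime_two).mp (hp.dvd_of_dvd_pow h)) hp2
    · rcases hp.dvd_mul.mp h with h | h
      · exact Or.inl ((Nat.prime_dvd_prime_iff_eq hp Nat.prime_three).mp h)
      · exact Or.inr ((Nat.prime_dvd_prime_iff_eq hp (by norm_num)).mp h)
  refine (XCtx.card_fix_pow_le s (orderOf s / p)).trans ?_
  rcases hp7 with rfl | rfl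
  · exact C.card_fix_three hord
  · exact C.card_fix_seven hord

end Cfsg.Agent.M24Type41
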